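import Groth.Agent.OortTate.Global
import Mathlib.LinearAlgebra.Dual.BaseChange

/-!
# Rank of the dual
-/

open TensorProduct

universe u
noncomputable section
namespace Groth.Agent.OortTate

variable {R : Type u} [CommRing R] {M : Type u} [AddCommGroup M] [Module R M] [Module.Finite R M]
  [Module.Projective R M]

/-- Base change of the dual of a finite projective module. -/
lemma finrank_dual_field (K : Type u) [Field K] [Algebra R K] :
    Module.finrank K (K ⊗[R] Module.Dual R M) = Module.finrank K (K ⊗[R] M) := by
  obtain ⟨n, g, f, -, -, hgf⟩ := Module.Finite.exists_comp_eq_id_of_projective R M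
  have hx : ∀ a : M, a = ∑ i, f a i • g (Pi.single i 1) := fun a => by
    conv_lhs => rw [← LinearMap.id_apply (R := R) a, ← hgf, LinearMap.comp_apply, pi_eq_sum_univ' (f a)]
    simp
  let F : K ⊗[R] Module.Dual R M →ₗ[K] Module.Dual K (K ⊗[R] M) :=
    ((Module.Dual.baseChange K : Module.Dual R M →ₗ[R] Module.Dual K (K ⊗[R] M))).liftBaseChange K
  have hF : ∀ (c : K) (φ : Module.Dual R M) (a : M),
      F (c ⊗ₜ φ) ((1 : K) ⊗ₜ a) = φ a • c := fun c φ a => by
    simp [F, Module.Dual.baseChange_apply_tmul, Algebra.smul_def, mul_comm]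
  let G : Module.Dual K (K ⊗[R] M) → K ⊗[R] Module.Dual R M := fun θ =>
    ∑ i, θ ((1 : K) ⊗ₜ g (Pi.single i 1)) ⊗ₜ[R] (LinearMap.proj i ∘ₗ f)
  have hleft : Function.LeftInverse G F := by
    intro z
    induction z using TensorProduct.induction_on with
    | zero => simp [G]
    | add y z hy hz => simp only [G, map_add, LinearMap.add_apply, TensorProduct.add_tmul,
        Finset.sum_add_distrib] at hy hz ⊢; rw [hy, hz]
    | tmul c φ =>
      simp only [G, hF, TensorProduct.smul_tmul, ← TensorProduct.tmul_sum]
      congr 1
      refine LinearMap.ext fun a => ?_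
      conv_rhs => rw [hx a]
      simp [mul_comm]
  have hright : Function.RightInverse G F := by
    intro θ
    refine TensorProduct.AlgebraTensorModule.ext fun c a => ?_
    rw [show c ⊗ₜ[R] a = c • ((1 : K) ⊗ₜ[R] a) by simp [TensorProduct.smul_tmul'], map_smul, map_smul]
    congr 1
    simp only [G, map_sum, LinearMap.sum_apply, hF]
    conv_rhs => rw [hx a, TensorProduct.tmul_sum, map_sum]
    simp [LinearMap.map_smul_of_tower]
  rw [(LinearEquiv.ofBijective F ⟨hleft.injective, hright.surjective⟩).finrank_eq, Subspace.dual_finrank_eq]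

lemma rankAtStalk_dual (q : PrimeSpectrum R) :
    Module.rankAtStalk (Module.Dual R M) q = Module.rankAtStalk M q := by
  rw [← comap_geomField q, ← rank_field, ← rank_field, finrank_dual_field]

end Groth.Agent.OortTate
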