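import Groth.Prelude.Def_W4c5ffgsreadingcourseOT
import Mathlib.RingTheory.IntegralDomain
import Mathlib.Algebra.Ring.GeomSum
import Mathlib.RingTheory.HopfAlgebra.TensorProduct
import Mathlib.RingTheory.Finiteness.Projective
import Mathlib.LinearAlgebra.Projection
import Mathlib.FieldTheory.Finite.Basic

/-!
# Eigen-decomposition under the power maps
-/

open WithConv Coalgebra TensorProduct

universe u
noncomputable section
namespace Groth.Agent.OortTate

variable {p : ℕ} [Fact p.Prime] {R : Type u} [CommRing R] {A : Type u} [CommRing A] [HopfAlgebra R A]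
  (χ : (ZMod p)ˣ →* Rˣ)

/-- The hypotheses on the character. -/
structure Sep (u : R) : Prop where
  inv : u * ((p - 1 : ℕ) : R) = 1
  sep : ∀ m : (ZMod p)ˣ, m ≠ 1 → IsUnit ((χ m : R) - 1)

omit [HopfAlgebra R A] in
lemma chi_pow_pred (m : (ZMod p)ˣ) : (χ m : R) ^ (p - 1) = 1 := by
  rw [← Units.val_pow_eq_pow_val, ← map_pow, ZMod.units_pow_card_sub_one_eq_one, map_one, Units.val_one]

lemma chi_pow_mod (m : (ZMod p)ˣ) (i : ℕ) : (χ m : R) ^ i = (χ m : R) ^ (i % (p - 1)) := by
  conv_lhs => rw [← Nat.mod_add_div i (p - 1), pow_add, pow_mul, chi_pow_pred χ m, one_pow, mul_one]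

lemma chi_inv_mul (m : (ZMod p)ˣ) : (χ m⁻¹ : R) * (χ m : R) = 1 := by
  rw [← Units.val_mul, ← map_mul, inv_mul_cancel, map_one, Units.val_one]

variable {χ} {u : R} (hs : Sep χ u)
include hs

/-- Orthogonality of characters, over the group. -/
lemma sum_chi_eq {i j : ℕ} :
    u * ∑ m : (ZMod p)ˣ, (χ m⁻¹ : R) ^ i * (χ m : R) ^ j =
      if i % (p - 1) = j % (p - 1) then 1 else 0 := by
  classical
  have hp := (Fact.out : p.Prime).two_le
  split_ifs with h
  · have : ∀ m : (ZMod p)ˣ, (χ m⁻¹ : R) ^ i * (χ m : R) ^ j = 1 := fun m => by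
      rw [chi_pow_mod χ m⁻¹ i, chi_pow_mod χ m j, h, ← mul_pow, chi_inv_mul, one_pow]
    simp only [this, Finset.sum_const, Finset.card_univ, ZMod.card_units, nsmul_eq_mul, mul_one]
    exact hs.inv
  · obtain ⟨g, hg⟩ := IsCyclic.exists_generator (α := (ZMod p)ˣ)
    have hord : orderOf g = p - 1 := by
      rw [orderOf_eq_card_of_forall_mem_zpowers hg, Nat.card_eq_fintype_card, ZMod.card_units]
    have hne : g ^ j * g⁻¹ ^ i ≠ 1 := by
      intro e
      apply h
      rw [inv_pow, mul_inv_eq_one, pow_eq_pow_iff_modEq, hord] at e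
      exact e.symm
    have hu := hs.sep _ hne
    set z : R := ((χ (g ^ j * g⁻¹ ^ i) : Rˣ) : R)
    set S := ∑ m : (ZMod p)ˣ, (χ m⁻¹ : R) ^ i * (χ m : R) ^ j
    have hS : z * S = S := by
      rw [Finset.mul_sum]
      refine Fintype.sum_equiv (Equiv.mulLeft g) _ _ fun m => ?_
      simp only [z, Equiv.coe_mulLeft, mul_inv, map_mul, map_pow, Units.val_mul, Units.val_pow_eq_pow_val,
        mul_pow]
      ring
    have : (z - 1) * S = 0 := by rw [sub_mul, hS, one_mul, sub_self]
    rw [hu.mul_right_eq_zero.mp this, mul_zero]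

/-- Orthogonality of characters, over the exponents. -/
lemma sum_exp_eq (m : (ZMod p)ˣ) :
    u * ∑ i : Fin (p - 1), (χ m⁻¹ : R) ^ (i : ℕ) = if m = 1 then 1 else 0 := by
  split_ifs with h
  · subst h
    simp only [inv_one, map_one, Units.val_one, one_pow, Finset.sum_const, Finset.card_univ,
      Fintype.card_fin, nsmul_eq_mul, mul_one]
    exact hs.inv
  · rw [Fin.sum_univ_eq_sum_range (fun i => (χ m⁻¹ : R) ^ i)]
    have := geom_sum_mul (χ m⁻¹ : R) (p - 1)
    rw [chi_pow_pred, sub_self] at this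
    rw [(hs.sep m⁻¹ (by simpa using h)).mul_left_eq_zero.mp this, mul_zero]

omit hs
variable (R A)

/-- The power map. -/
abbrev pw (n : ℕ) : A →ₐ[R] A := SGA3b.powConv R A n

lemma counit_pw (n : ℕ) (a : A) : counit (R := R) (pw R A n a) = counit (R := R) a := by
  induction n generalizing a with
  | zero => simp [pw, SGA3b.powConv, AlgHom.convOne_def]
  | succ n ih =>
    have h : (Bialgebra.counitAlgHom R A).comp (pw R A (n + 1)) = Bialgebra.counitAlgHom R A := by
      rw [pw, SGA3b.powConv, pow_succ, AlgHom.comp_convMul_distrib]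
      have e1 : (Bialgebra.counitAlgHom R A).comp ((toConv (AlgHom.id R A) ^ n).ofConv) =
          Bialgebra.counitAlgHom R A := AlgHom.ext ih
      have e2 : (toConv (Bialgebra.counitAlgHom R A) : WithConv (A →ₐ[R] R)) = 1 := by
        refine WithConv.ext (AlgHom.ext fun a => ?_)
        simp [AlgHom.convOne_def]
      simp only [ofConv_toConv, AlgHom.comp_id]
      rw [e1, e2, one_mul]
      exact AlgHom.ext fun a => by simp [AlgHom.convOne_def]
    exact congr($h a)

lemma pw_comp (a b : ℕ) : (pw R A a).comp (pw R A b) = pw R A (a * b) := by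
  induction b with
  | zero =>
    refine AlgHom.ext fun x => ?_
    simp [pw, SGA3b.powConv, AlgHom.convOne_def]
  | succ b ih =>
    rw [pw, pw, SGA3b.powConv, SGA3b.powConv, pow_succ, AlgHom.comp_convMul_distrib, Nat.mul_succ]
    show _ = ((toConv (AlgHom.id R A)) ^ (a * b + a)).ofConv
    rw [pow_add]
    congr 2
    exact WithConv.ext ih

variable {R A} (hp : (toConv (AlgHom.id R A)) ^ p = 1)
include hp

lemma pw_congr {a b : ℕ} (h : a % p = b % p) : pw R A a = pw R A b := by
  rw [pw, pw, SGA3b.powConv, SGA3b.powConv, ← Nat.mod_add_div a p, ← Nat.mod_add_div b p,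
    pow_add, pow_add, pow_mul, pow_mul, hp, one_pow, one_pow, h]

lemma pw_units (m m' : (ZMod p)ˣ) : (pw R A (m : ZMod p).val).comp (pw R A (m' : ZMod p).val) =
    pw R A ((m * m' : (ZMod p)ˣ) : ZMod p).val := by
  rw [pw_comp]
  refine pw_congr hp ?_
  rw [Units.val_mul, ZMod.val_mul, Nat.mod_mod]

omit hp

lemma pw_one : pw R A ((1 : (ZMod p)ˣ) : ZMod p).val = AlgHom.id R A := by
  rw [Units.val_one, ZMod.val_one]
  simp [pw, SGA3b.powConv]

lemma mem_eigenAug {i : ℕ} {a : A} : a ∈ OortTate.eigenAug R A p χ i ↔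
    counit (R := R) a = 0 ∧ ∀ m : (ZMod p)ˣ, pw R A (m : ZMod p).val a = (χ m : R) ^ i • a := by
  simp [OortTate.eigenAug, Module.End.mem_eigenspace_iff]

lemma eigenAug_mod (i : ℕ) : OortTate.eigenAug R A p χ i = OortTate.eigenAug R A p χ (i % (p - 1)) := by
  ext a
  simp only [mem_eigenAug, ← chi_pow_mod χ _ i]

lemma mul_mem_eigenAug {i j : ℕ} {a b : A} (ha : a ∈ OortTate.eigenAug R A p χ i)
    (hb : b ∈ OortTate.eigenAug R A p χ j) : a * b ∈ OortTate.eigenAug R A p χ (i + j) := by
  rw [mem_eigenAug] at *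
  refine ⟨by rw [Bialgebra.counit_mul, ha.1, zero_mul], fun m => ?_⟩
  rw [map_mul, ha.2, hb.2, smul_mul_smul_comm, pow_add]

lemma pow_mem_eigenAug {f : A} (hf : f ∈ OortTate.eigenAug R A p χ 1) :
    ∀ t : ℕ, 1 ≤ t → f ^ t ∈ OortTate.eigenAug R A p χ t := by
  intro t ht
  induction t, ht using Nat.le_induction with
  | base => rwa [pow_one]
  | succ t _ ih => rw [pow_succ]; exact mul_mem_eigenAug ih hf

variable (R A) in
/-- The averaging operator. -/
abbrev P (u : R) (χ : (ZMod p)ˣ →* Rˣ) (i : ℕ) : A →ₗ[R] A := OortTate.proj R A p u χ i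

lemma P_apply (i : ℕ) (a : A) :
    P R A u χ i a = u • ∑ m : (ZMod p)ˣ, (χ m⁻¹ : R) ^ i • pw R A (m : ZMod p).val a := by
  simp [P, OortTate.proj]

lemma counit_P (i : ℕ) (a : A) :
    counit (R := R) (P R A u χ i a) = (u * ∑ m : (ZMod p)ˣ, (χ m⁻¹ : R) ^ i) * counit (R := R) a := by
  simp [P_apply, counit_pw, Finset.sum_mul, mul_assoc]

include hp in
lemma P_mem (i : ℕ) {a : A} (ha : counit (R := R) a = 0) : P R A u χ i a ∈ OortTate.eigenAug R A p χ i := by
  rw [mem_eigenAug]
  refine ⟨by rw [counit_P, ha, mul_zero], fun m₀ => ?_⟩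
  simp only [P_apply, map_smul, map_sum]
  rw [smul_comm]
  congr 1
  rw [Finset.smul_sum]
  refine Fintype.sum_equiv (Equiv.mulLeft m₀) _ _ fun m => ?_
  rw [← AlgHom.comp_apply, pw_units hp, smul_smul, Equiv.coe_mulLeft, mul_inv, map_mul, Units.val_mul,
    Units.val_mul, mul_pow, ← mul_assoc, ← mul_pow, mul_comm (χ m₀ : R), chi_inv_mul, one_pow, one_mul]

include hs in
lemma P_of_mem (i j : ℕ) {a : A} (ha : a ∈ OortTate.eigenAug R A p χ j) :
    P R A u χ i a = if i % (p - 1) = j % (p - 1) then a else 0 := by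
  rw [mem_eigenAug] at ha
  simp only [P_apply, ha.2, smul_smul, ← Finset.sum_smul]
  rw [sum_chi_eq hs]
  split_ifs <;> simp

include hs in
lemma sum_P (a : A) : ∑ i : Fin (p - 1), P R A u χ (i : ℕ) a = a := by
  simp only [P_apply, Finset.smul_sum, smul_smul]
  rw [Finset.sum_comm]
  simp only [← Finset.sum_smul, ← Finset.mul_sum, sum_exp_eq hs]
  simp only [ite_smul, one_smul, zero_smul, Finset.sum_ite_eq', Finset.mem_univ, if_true]
  exact congr($(pw_one (p := p) (R := R) (A := A)) a)

variable (R A) in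
/-- The projector onto an eigen part of the augmentation ideal. -/
def Q (u : R) (χ : (ZMod p)ˣ →* Rˣ) (i : ℕ) : A →ₗ[R] A :=
  P R A u χ i ∘ₗ (LinearMap.id - Algebra.linearMap R A ∘ₗ counit)

include hp in
lemma Q_mem (i : ℕ) (a : A) : Q R A u χ i a ∈ OortTate.eigenAug R A p χ i :=
  P_mem hp i (by simp [Bialgebra.counit_algebraMap])

include hs in
lemma Q_of_mem (i j : ℕ) {a : A} (ha : a ∈ OortTate.eigenAug R A p χ j) :
    Q R A u χ i a = if i % (p - 1) = j % (p - 1) then a else 0 := by
  have h0 := (mem_eigenAug.mp ha).1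
  rw [← P_of_mem hs i j ha]
  simp [Q, h0]

include hs in
lemma sum_Q (a : A) : ∑ i : Fin (p - 1), Q R A u χ (i : ℕ) a = a - algebraMap R A (counit a) :=
  sum_P hs _

include hs hp in
lemma range_Q (i : ℕ) : LinearMap.range (Q R A u χ i) = OortTate.eigenAug R A p χ i := by
  refine le_antisymm ?_ fun a ha => ⟨a, by rw [Q_of_mem hs i i ha, if_pos rfl]⟩
  rintro _ ⟨a, rfl⟩
  exact Q_mem hp i a

include hs hp in
theorem decomposition : iSupIndep (fun i : Fin (p - 1) => OortTate.eigenAug R A p χ (i : ℕ)) ∧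
    (⨆ i : Fin (p - 1), OortTate.eigenAug R A p χ (i : ℕ)) =
      LinearMap.ker (Bialgebra.counitAlgHom R A).toLinearMap ∧
    ∀ i : Fin (p - 1), OortTate.eigenAug R A p χ (i : ℕ) =
      Submodule.map (P R A u χ (i : ℕ)) (LinearMap.ker (Bialgebra.counitAlgHom R A).toLinearMap) := by
  refine ⟨fun i => ?_, le_antisymm (iSup_le fun i a ha => (mem_eigenAug.mp ha).1) fun a ha => ?_,
    fun i => le_antisymm (fun a ha => ⟨a, (mem_eigenAug.mp ha).1,
      by rw [P_of_mem hs _ _ ha, if_pos rfl]⟩) ?_⟩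
  · rw [Submodule.disjoint_def]
    intro a hai ha
    have h0 : P R A u χ (i : ℕ) a = 0 := by
      clear hai
      induction ha using Submodule.iSup_induction' with
      | mem j a ha =>
        by_cases hj : j = i
        · simp only [hj, ne_eq, not_true_eq_false, iSup_false, Submodule.mem_bot] at ha
          simp [ha]
        · simp only [ne_eq, hj, not_false_eq_true, iSup_pos] at ha
          rw [P_of_mem hs _ _ ha, if_neg]
          rw [Nat.mod_eq_of_lt i.2, Nat.mod_eq_of_lt j.2]
          exact fun e => hj (Fin.ext e.symm)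
      | zero => simp
      | add x y _ _ hx hy => rw [map_add, hx, hy, add_zero]
    rwa [P_of_mem hs _ _ hai, if_pos rfl] at h0
  · rw [← sum_P hs (χ := χ) a]
    exact Submodule.sum_mem _ fun i _ => Submodule.mem_iSup_of_mem i (P_mem hp _ ha)
  · rintro _ ⟨a, ha, rfl⟩
    exact P_mem hp _ ha

include hs hp in
lemma finite_eigenAug [Module.Finite R A] (i : ℕ) : Module.Finite R (OortTate.eigenAug R A p χ i) := by
  rw [← range_Q hs hp i]; infer_instance

include hs hp in
lemma projective_eigenAug [Module.Projective R A] (i : ℕ) :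
    Module.Projective R (OortTate.eigenAug R A p χ i) :=
  Module.Projective.of_split (OortTate.eigenAug R A p χ i).subtype
    ((Q R A u χ i).codRestrict _ (Q_mem hp i))
    (LinearMap.ext fun a => Subtype.ext (by
      show Q R A u χ i (a : A) = a
      rw [Q_of_mem hs i i a.2, if_pos rfl]))

section BaseChange
variable (K : Type u) [CommRing K] [Algebra R K]

/-- Elements of the base change. -/
abbrev inK : A →ₐ[R] K ⊗[R] A := Algebra.TensorProduct.includeRight

omit [Fact p.Prime] in
lemma algebraMap_inK (r : R) :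
    algebraMap K (K ⊗[R] A) (algebraMap R K r) = (1 : K) ⊗ₜ[R] algebraMap R A r := by
  rw [Algebra.TensorProduct.algebraMap_apply, Algebra.algebraMap_self, RingHom.id_apply,
    Algebra.algebraMap_eq_smul_one, Algebra.algebraMap_eq_smul_one, TensorProduct.smul_tmul]

omit [Fact p.Prime] in
lemma counit_inK (a : A) : counit (R := K) ((1 : K) ⊗ₜ[R] a) = algebraMap R K (counit (R := R) a) := by
  rw [TensorProduct.counit_tmul, CommSemiring.counit_apply, Algebra.smul_def, mul_one]

omit [Fact p.Prime] in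
lemma pw_baseChange (n : ℕ) (a : A) :
    pw K (K ⊗[R] A) n ((1 : K) ⊗ₜ[R] a) = (1 : K) ⊗ₜ[R] pw R A n a := by
  induction n generalizing a with
  | zero =>
    simp only [pw, SGA3b.powConv, pow_zero, AlgHom.convOne_def, ofConv_toConv, AlgHom.comp_apply,
      Algebra.ofId_apply, Bialgebra.counitAlgHom_apply]
    rw [counit_inK, algebraMap_inK]
  | succ n ih =>
    simp only [pw, SGA3b.powConv, pow_succ]
    show ((toConv (AlgHom.id K (K ⊗[R] A))) ^ n * toConv (AlgHom.id K (K ⊗[R] A))).ofConv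
      ((1 : K) ⊗ₜ[R] a) = (1 : K) ⊗ₜ[R] ((toConv (AlgHom.id R A)) ^ n * toConv (AlgHom.id R A)).ofConv a
    rw [AlgHom.convMul_apply, AlgHom.convMul_apply, TensorProduct.comul_tmul]
    generalize comul (R := R) a = t
    induction t using TensorProduct.induction_on with
    | zero => simp
    | tmul x y =>
      simp only [AlgebraTensorModule.map_tmul, CommSemiring.comul_apply,
        AlgebraTensorModule.tensorTensorTensorComm_tmul]
      simp only [pw, SGA3b.powConv] at ih
      simp [ih]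
    | add x y hx hy => simp only [tmul_add, map_add, hx, hy]

omit [Fact p.Prime] in
lemma id_pow_baseChange (h : (toConv (AlgHom.id R A)) ^ p = 1) :
    (toConv (AlgHom.id K (K ⊗[R] A))) ^ p = 1 := by
  refine WithConv.ext (Algebra.TensorProduct.ext (Algebra.ext_id _ _ _) (AlgHom.ext fun a => ?_))
  show pw K (K ⊗[R] A) p ((1 : K) ⊗ₜ[R] a) = (1 : WithConv (K ⊗[R] A →ₐ[K] K ⊗[R] A)).ofConv (1 ⊗ₜ a)
  rw [pw_baseChange, pw, SGA3b.powConv, h]
  simp only [AlgHom.convOne_def, ofConv_toConv, AlgHom.comp_apply,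
      Algebra.ofId_apply, Bialgebra.counitAlgHom_apply]
  rw [counit_inK, algebraMap_inK]

/-- The base changed character. -/
abbrev chiK (χ : (ZMod p)ˣ →* Rˣ) : (ZMod p)ˣ →* Kˣ :=
  (Units.map (algebraMap R K).toMonoidHom).comp χ

include hs in
lemma sep_baseChange : Sep (chiK K χ) (algebraMap R K u) := by
  refine ⟨?_, fun m hm => ?_⟩
  · rw [← map_natCast (algebraMap R K), ← map_mul, hs.inv, map_one]
  · simpa [chiK] using (hs.sep m hm).map (algebraMap R K)

lemma Q_baseChange (i : ℕ) :
    Q K (K ⊗[R] A) (algebraMap R K u) (chiK K χ) i = (Q R A u χ i).baseChange K := by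
  refine TensorProduct.AlgebraTensorModule.ext fun c a => ?_
  rw [show c ⊗ₜ[R] a = c • ((1 : K) ⊗ₜ[R] a) by simp [TensorProduct.smul_tmul'], map_smul, map_smul]
  congr 1
  have he := counit_inK (R := R) (A := A) K a
  simp only [LinearMap.baseChange_tmul, Q, LinearMap.comp_apply, LinearMap.sub_apply, LinearMap.id_apply,
    Algebra.linearMap_apply, P_apply, he]
  rw [algebraMap_inK, ← TensorProduct.tmul_sub]
  simp only [pw_baseChange, chiK, MonoidHom.comp_apply, Units.coe_map, MonoidHom.coe_coe,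
    RingHom.toMonoidHom_eq_coe, ← map_pow, algebraMap_smul, TensorProduct.tmul_smul, TensorProduct.tmul_sum]

end BaseChange

end Groth.Agent.OortTate
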