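import Groth.Agent.OortTate.Pairing
import Groth.Agent.OortTate.DualRank
import Groth.Prelude.Def_CartDual2
import Mathlib.RingTheory.Bialgebra.Equiv

/-!
# The classification map is injective
-/

open WithConv Coalgebra TensorProduct

universe u
noncomputable section
namespace Groth.Agent.OortTate

variable {p : ℕ} [Fact p.Prime] {R : Type u} [CommRing R] {χ : (ZMod p)ˣ →* Rˣ} {u : R} (hs : Sep χ u)
  (hχp : ∀ m : (ZMod p)ˣ, ((χ m : Rˣ) : R) - (((m : ZMod p).val : ℕ) : R) ∈ Ideal.span ({(p : R)} : Set R))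

section General
variable {A : Type u} [CommRing A] [HopfAlgebra R A] [Module.Finite R A] [Module.Projective R A]
  (hrk : ∀ q : PrimeSpectrum R, Module.rankAtStalk A q = p)

omit [Module.Finite R A] [Module.Projective R A] in
include hs in
lemma prod_mem_eigenAug {n : ℕ} (hn : 1 ≤ n) (x : Fin n → OortTate.eigenAug R A p χ 1) :
    ∏ i, (x i : A) ∈ OortTate.eigenAug R A p χ n := by
  induction n, hn using Nat.le_induction with
  | base => simp
  | succ n _ ih =>
    rw [Fin.prod_univ_castSucc]
    exact mul_mem_eigenAug (ih fun i => x i.castSucc) (x _).2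

include hs hχp hrk

/-- Linear maps agreeing on products of first eigen elements are equal. -/
lemma linear_ext_products {W : Type*} [AddCommMonoid W] [Module R W] (F G : A →ₗ[R] W)
    (h : ∀ n, n < p → ∀ x : Fin n → OortTate.eigenAug R A p χ 1, F (∏ i, (x i : A)) = G (∏ i, (x i : A))) :
    F = G := by
  have hp := id_pow_eq_one hrk
  refine LinearMap.ext fun a => ?_
  rw [show a = (∑ i : Fin (p - 1), Q R A u χ (i : ℕ) a) + algebraMap R A (counit a) by
    rw [sum_Q hs a, sub_add_cancel], map_add, map_add, map_sum, map_sum]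
  refine congrArg₂ (· + ·) (Finset.sum_congr rfl fun i _ => ?_) ?_
  · obtain ⟨t, h1, h2, h3⟩ : ∃ t, 1 ≤ t ∧ t ≤ p - 1 ∧ t % (p - 1) = (i : ℕ) := by
      rcases Nat.eq_zero_or_pos (i : ℕ) with h | h
      · exact ⟨p - 1, by have := i.2; omega, le_rfl, by rw [Nat.mod_self, h]⟩
      · exact ⟨i, h, i.2.le, Nat.mod_eq_of_lt i.2⟩
    have hi : Q R A u χ (i : ℕ) a ∈ OortTate.eigenAug R A p χ 1 ^ t := by
      rw [pow_eq hs hχp hrk t h1 h2, eigenAug_mod, h3]
      exact Q_mem hp _ a
    generalize Q R A u χ (i : ℕ) a = b at hi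
    rw [Submodule.pow_eq_span_pow_set] at hi
    induction hi using Submodule.span_induction with
    | zero => simp
    | add x y _ _ hx hy => simp only [map_add, hx, hy]
    | smul r x _ hx => simp only [map_smul, hx]
    | mem x hx =>
      obtain ⟨f, rfl⟩ := Set.mem_pow.mp hx
      rw [List.prod_ofFn]
      have := (Fact.out : p.Prime).two_le
      exact h t (by omega) fun j => ⟨_, (f j).2⟩
  · rw [Algebra.algebraMap_eq_smul_one, map_smul, map_smul]
    have := h 0 (Fact.out : p.Prime).pos Fin.elim0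
    rw [Fin.prod_univ_zero] at this
    rw [this]

/-- Algebra maps agreeing on the first eigen part are equal. -/
lemma algHom_ext {B : Type u} [CommRing B] [Algebra R B] (F G : A →ₐ[R] B)
    (h : ∀ x : OortTate.eigenAug R A p χ 1, F x = G x) : F = G := by
  refine AlgHom.ext fun a => ?_
  obtain ⟨w, rfl⟩ := liftI_surjective hs hχp hrk a
  have : F.comp (liftI R p A χ) = G.comp (liftI R p A χ) :=
    TensorAlgebra.hom_ext (LinearMap.ext fun x => by simpa using h x)
  exact AlgHom.congr_fun this w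

/-- Algebra maps out of the coordinate ring. -/
lemma exists_algHom {B : Type u} [CommRing B] [Algebra R B]
    (θ : OortTate.eigenAug R A p χ 1 →ₗ[R] B)
    (hθ : ∀ (f : Fin p → OortTate.eigenAug R A p χ 1) (g : OortTate.eigenAug R A p χ 1),
      (g : A) = ∏ i, (f i : A) → θ g = ∏ i, θ (f i)) :
    ∃ F : A →ₐ[R] B, ∀ x : OortTate.eigenAug R A p χ 1, F x = θ x := by
  have hsurj := liftI_surjective hs hχp hrk
  let F' := TensorAlgebra.lift R θ
  have hker : RingHom.ker (liftI R p A χ) ≤ RingHom.ker F' := by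
    rw [ker_liftI hs hχp hrk, relIdeal, Ideal.span_le]
    rintro _ ⟨f, g, hg, rfl⟩
    rw [SetLike.mem_coe, RingHom.mem_ker, map_sub, map_list_prod, List.map_ofFn, List.prod_ofFn]
    simp [F', Function.comp_def, hθ f g hg]
  have hwd : ∀ v w, liftI R p A χ v = liftI R p A χ w → F' v = F' w := fun v w h => by
    rw [← sub_eq_zero, ← map_sub]
    exact hker (by rw [RingHom.mem_ker, map_sub, h, sub_self])
  let s := Function.surjInv hsurj
  have hs' : ∀ a, liftI R p A χ (s a) = a := Function.surjInv_eq hsurj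
  refine ⟨{ toFun := fun a => F' (s a)
            map_one' := (hwd _ 1 (by rw [hs', map_one])).trans (map_one F')
            map_mul' := fun a b => (hwd _ (s a * s b) (by rw [map_mul, hs', hs', hs'])).trans (map_mul F' _ _)
            map_zero' := (hwd _ 0 (by rw [hs', map_zero])).trans (map_zero F')
            map_add' := fun a b => (hwd _ (s a + s b) (by rw [map_add, hs', hs', hs'])).trans (map_add F' _ _)
            commutes' := fun r => (hwd _ (algebraMap R _ r) (by rw [hs', AlgHom.commutes])).trans (F'.commutes r) },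
    fun x => ?_⟩
  show F' (s x) = θ x
  rw [hwd _ (TensorAlgebra.ι R x) (by rw [hs']; simp)]
  simp [F']

/-- The universal constant: pairing of products. -/
lemma pairing_mul [Coalgebra.IsCocomm R A] {n : ℕ} (hn : 1 ≤ n) {c : R}
    (hc : OortTate.ygen R p u χ 1 ^ n = c • OortTate.ygen R p u χ n)
    (φ : Fin n → OortTate.eigenAug R (CartDual.D R A) p χ 1) (x : Fin n → OortTate.eigenAug R A p χ 1) :
    (∏ i, (φ i : CartDual.D R A)).ofConv (∏ i, (x i : A)) =
      c * ∏ i, (φ i : CartDual.D R A).ofConv (x i : A) := by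
  have hp := id_pow_eq_one hrk
  let M : Multiplicative (ZMod p) →* WithConv (A →ₐ[R] A) :=
    { toFun := fun k => toConv (AlgHom.id R A) ^ (Multiplicative.toAdd k).val
      map_one' := by simp
      map_mul' := fun a b => by
        rw [← pow_add, toAdd_mul, ZMod.val_add, ← pow_eq_pow_mod _ hp] }
  let T : WithConv (A →ₐ[R] A) →* WithConv (A →ₗ[R] A) :=
    { toFun := fun φ => toConv φ.ofConv.toLinearMap
      map_one' := rfl
      map_mul' := fun φ ψ => AlgHom.toLinearMap_convMul φ ψ }
  let F := MonoidAlgebra.lift R (WithConv (A →ₗ[R] A)) (Multiplicative (ZMod p)) (T.comp M)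
  have hF : F (OortTate.muT R p) = toConv LinearMap.id := by
    rw [MonoidAlgebra.lift_of]
    simp [M, T, ZMod.val_one]
  have hpow : toConv (Q R A u χ 1) ^ n = c • toConv (Q R A u χ n) := by
    rw [← alg_ygen F hF, ← alg_ygen F hF, ← map_pow, hc, map_smul]
  have h1 : ∀ i, Ψ R A ((x i : A) ⊗ₜ (φ i : CartDual.D R A)) =
      (φ i : CartDual.D R A).ofConv (x i : A) • toConv (Q R A u χ 1) := fun i =>
    Ψ_eigen hs hχp hrk 1 (x i).2 (φ i).2
  have hprod : ∀ (s : Finset (Fin n)), (∏ i ∈ s, Ψ R A ((x i : A) ⊗ₜ[R] (φ i : CartDual.D R A))) =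
      Ψ R A ((∏ i ∈ s, (x i : A)) ⊗ₜ[R] ∏ i ∈ s, (φ i : CartDual.D R A)) := by
    intro s
    classical
    induction s using Finset.induction_on with
    | empty => rw [Finset.prod_empty, Finset.prod_empty, Finset.prod_empty]; exact (Ψ R A).toRingHom.map_one.symm
    | insert a s ha ih =>
      rw [Finset.prod_insert ha, Finset.prod_insert ha, Finset.prod_insert ha, ih]
      exact ((Ψ R A).toRingHom.map_mul _ _).symm.trans
        (congrArg (Ψ R A) (Algebra.TensorProduct.tmul_mul_tmul _ _ _ _))
  have h2 := hprod Finset.univ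
  rw [Ψ_eigen hs hχp hrk n (prod_mem_eigenAug hs hn x) (prod_mem_eigenAug hs hn φ)] at h2
  simp only [h1, Finset.prod_smul, Finset.prod_const, Finset.card_univ, Fintype.card_fin, hpow,
    smul_smul] at h2
  rw [← sub_eq_zero]
  refine smul_Q_eq_zero hs hχp hrk n ?_
  rw [sub_smul, mul_comm, h2, sub_self]

end General

section Iso
variable {A A' : Type u} [CommRing A] [HopfAlgebra R A] [Module.Finite R A] [Module.Projective R A]
  [Coalgebra.IsCocomm R A] [CommRing A'] [HopfAlgebra R A'] [Module.Finite R A'] [Module.Projective R A']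
  [Coalgebra.IsCocomm R A']
  (hrk : ∀ q : PrimeSpectrum R, Module.rankAtStalk A q = p)
  (hrk' : ∀ q : PrimeSpectrum R, Module.rankAtStalk A' q = p)

include hs hχp hrk hrk'

theorem classify
    (θ : OortTate.eigenAug R A p χ 1 ≃ₗ[R] OortTate.eigenAug R A' p χ 1)
    (hθ : ∀ (f : Fin p → OortTate.eigenAug R A p χ 1) (g : OortTate.eigenAug R A p χ 1),
      (g : A) = ∏ i, (f i : A) → ((θ g : OortTate.eigenAug R A' p χ 1) : A') = ∏ i, ((θ (f i)) : A'))
    (hθD : ∀ (φ : Fin p → OortTate.eigenAug R (CartDual.D R A) p χ 1)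
      (φ' : Fin p → OortTate.eigenAug R (CartDual.D R A') p χ 1)
      (ψ : OortTate.eigenAug R (CartDual.D R A) p χ 1) (ψ' : OortTate.eigenAug R (CartDual.D R A') p χ 1),
      (∀ i, ∀ x : OortTate.eigenAug R A p χ 1,
        CartDual.toDual R A (φ i : CartDual.D R A) (x : A) =
          CartDual.toDual R A' (φ' i : CartDual.D R A') ((θ x : OortTate.eigenAug R A' p χ 1) : A')) →
      (ψ : CartDual.D R A) = ∏ i, (φ i : CartDual.D R A) →
      (ψ' : CartDual.D R A') = ∏ i, (φ' i : CartDual.D R A') →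
      ∀ x : OortTate.eigenAug R A p χ 1,
        CartDual.toDual R A (ψ : CartDual.D R A) (x : A) =
          CartDual.toDual R A' (ψ' : CartDual.D R A') ((θ x : OortTate.eigenAug R A' p χ 1) : A')) :
    Nonempty (A ≃ₐc[R] A') := by
  have hp := id_pow_eq_one hrk
  have hp' := id_pow_eq_one hrk'
  obtain ⟨F, hF⟩ := exists_algHom hs hχp hrk ((OortTate.eigenAug R A' p χ 1).subtype ∘ₗ θ.toLinearMap) hθ
  obtain ⟨F', hF'⟩ := exists_algHom hs hχp hrk' ((OortTate.eigenAug R A p χ 1).subtype ∘ₗ θ.symm.toLinearMap)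
    (fun f g hg => by
      obtain ⟨g₀, hg₀⟩ := exists_prod_mem hs hχp hrk fun i => θ.symm (f i)
      have h := hθ _ g₀ hg₀
      simp only [LinearEquiv.apply_symm_apply, ← hg] at h
      have h' : θ.symm g = g₀ := by rw [← Subtype.ext h, θ.symm_apply_apply]
      simpa [h'] using hg₀)
  simp only [LinearMap.comp_apply, LinearEquiv.coe_coe, Submodule.coe_subtype] at hF hF'
  have hFF' : F.comp F' = AlgHom.id R A' := algHom_ext hs hχp hrk' _ _ fun x => by
    simp [hF', hF]
  have hF'F : F'.comp F = AlgHom.id R A := algHom_ext hs hχp hrk _ _ fun x => by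
    simp [hF', hF]
  let e : A ≃ₐ[R] A' := AlgEquiv.ofAlgHom F F' hFF' hF'F
  have hcounit : (Bialgebra.counitAlgHom R A').comp F = Bialgebra.counitAlgHom R A :=
    algHom_ext hs hχp hrk _ _ fun x => by
      simp [hF, (mem_eigenAug.mp x.2).1, (mem_eigenAug.mp (θ x).2).1]
  have hFpw : ∀ (m : (ZMod p)ˣ) (a : A), pw R A' (m : ZMod p).val (F a) = F (pw R A (m : ZMod p).val a) := by
    intro m a
    refine AlgHom.congr_fun (algHom_ext hs hχp hrk ((pw R A' _).comp F) (F.comp (pw R A _)) fun x => ?_) a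
    simp only [AlgHom.comp_apply, hF, (mem_eigenAug.mp x.2).2 m, (mem_eigenAug.mp (θ x).2).2 m, map_smul]
  let T : CartDual.D R A' →ₗ[R] CartDual.D R A := CartDual.transposeLin R F.toLinearMap
  have hT : ∀ ψ a, (T ψ).ofConv a = ψ.ofConv (F a) := fun ψ a => rfl
  have hTmem : ∀ (i : ℕ) (ψ : OortTate.eigenAug R (CartDual.D R A') p χ i),
      T ψ ∈ OortTate.eigenAug R (CartDual.D R A) p χ i := by
    intro i ψ
    rw [mem_eigenAug]
    refine ⟨?_, fun m => WithConv.ext (LinearMap.ext fun a => ?_)⟩
    · have h := (mem_eigenAug.mp ψ.2).1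
      rw [CartDual.coalgebra_counit_apply] at h ⊢
      show (ψ : CartDual.D R A').ofConv (F 1) = 0
      rw [map_one]; exact h
    · rw [dual_pw, hT, ← hFpw, ← dual_pw, (mem_eigenAug.mp ψ.2).2]
      rfl
  have hTone : T 1 = 1 := WithConv.ext (LinearMap.ext fun a => by
    have := AlgHom.congr_fun hcounit a
    simpa [hT, LinearMap.convOne_def] using this)
  have hDrk : ∀ q : PrimeSpectrum R, Module.rankAtStalk (CartDual.D R A') q = p := fun q => by
    rw [Module.rankAtStalk_eq_of_equiv (CartDual.toDual R A'), rankAtStalk_dual, hrk']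
  -- the transpose on products
  have hTprod : ∀ n, n < p → ∀ ψ : Fin n → OortTate.eigenAug R (CartDual.D R A') p χ 1,
      T (∏ i, (ψ i : CartDual.D R A')) = ∏ i, T (ψ i) := by
    intro n hn ψ
    rcases Nat.eq_zero_or_pos n with rfl | hn1
    · simp [hTone]
    obtain ⟨c, hc⟩ : ∃ c : R, OortTate.ygen R p u χ 1 ^ n = c • OortTate.ygen R p u χ n := by
      have hy : OortTate.ygen R p u χ 1 ∈ OortTate.eigenAug R (GA p R) p χ 1 := by
        rw [eigen_GA hs]; exact Submodule.mem_span_singleton_self _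
      have h := pow_mem_eigenAug hy n hn1
      rw [eigen_GA hs] at h
      obtain ⟨c, hc⟩ := Submodule.mem_span_singleton.mp h
      exact ⟨c, hc.symm⟩
    let L : Fin n → OortTate.eigenAug R (CartDual.D R A) p χ 1 := fun i => ⟨T (ψ i), hTmem 1 (ψ i)⟩
    have h1 : T (∏ i, (ψ i : CartDual.D R A')) ∈ OortTate.eigenAug R (CartDual.D R A) p χ n :=
      hTmem n ⟨_, prod_mem_eigenAug hs hn1 ψ⟩
    have h2 : ∏ i, T (ψ i) ∈ OortTate.eigenAug R (CartDual.D R A) p χ n := prod_mem_eigenAug hs hn1 L
    refine congr_arg Subtype.val ((dual_eigen_bijective hs hp n).1 (a₁ := ⟨_, h1⟩) (a₂ := ⟨_, h2⟩)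
      (LinearMap.ext fun y => ?_))
    show (T (∏ i, (ψ i : CartDual.D R A'))).ofConv (y : A) = (∏ i, T (ψ i)).ofConv (y : A)
    have hy : (y : A) ∈ OortTate.eigenAug R A p χ 1 ^ n := by
      rw [pow_eq hs hχp hrk n hn1 (by omega)]; exact y.2
    generalize (y : A) = b at hy
    rw [Submodule.pow_eq_span_pow_set] at hy
    induction hy using Submodule.span_induction with
    | zero => simp
    | add x y _ _ hx hy => simp only [map_add, hx, hy]
    | smul r x _ hx => simp only [map_smul, hx]
    | mem x hx =>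
      obtain ⟨f, rfl⟩ := Set.mem_pow.mp hx
      rw [List.prod_ofFn, hT, map_prod]
      let f' : Fin n → OortTate.eigenAug R A p χ 1 := fun j => ⟨_, (f j).2⟩
      have e1 : ∏ i, F (f i : A) = ∏ i, ((θ (f' i)) : A') := Finset.prod_congr rfl fun i _ => hF (f' i)
      rw [e1, pairing_mul hs hχp hrk' hn1 hc ψ (fun i => θ (f' i))]
      refine Eq.trans ?_ (pairing_mul hs hχp hrk hn1 hc L f').symm
      congr 1
      exact Finset.prod_congr rfl fun i _ => congrArg _ (hF (f' i)).symm
  -- the transpose is multiplicative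
  obtain ⟨G, hG⟩ := exists_algHom hs hχp hDrk (T ∘ₗ (OortTate.eigenAug R (CartDual.D R A') p χ 1).subtype)
    (fun φ' ψ' hψ' => by
      let φ : Fin p → OortTate.eigenAug R (CartDual.D R A) p χ 1 := fun i => ⟨T (φ' i), hTmem 1 (φ' i)⟩
      have hrkD : ∀ q : PrimeSpectrum R, Module.rankAtStalk (CartDual.D R A) q = p := fun q => by
        rw [Module.rankAtStalk_eq_of_equiv (CartDual.toDual R A), rankAtStalk_dual, hrk]
      obtain ⟨ψ, hψ⟩ := exists_prod_mem hs hχp hrkD φ
      have hagree := hθD φ φ' ψ ψ' (fun i x => congrArg (φ' i : CartDual.D R A').ofConv (hF x)) hψ hψ'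
      have heq : ψ = (⟨T ψ', hTmem 1 ψ'⟩ : OortTate.eigenAug R (CartDual.D R A) p χ 1) :=
        (dual_eigen_bijective hs hp 1).1 (LinearMap.ext fun x =>
          (hagree x).trans (congrArg (ψ' : CartDual.D R A').ofConv (hF x)).symm)
      exact (congr_arg Subtype.val heq).symm.trans hψ)
  have hTG : T = G.toLinearMap := linear_ext_products hs hχp hDrk _ _ fun n hn ψ => by
    rw [hTprod n hn, AlgHom.toLinearMap_apply, map_prod]
    exact Finset.prod_congr rfl fun i _ => (hG (ψ i)).symm
  refine ⟨BialgEquiv.ofAlgEquiv e hcounit (AlgHom.ext fun a => ?_)⟩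
  rw [← sub_eq_zero, ← Module.forall_dual_apply_eq_zero_iff R]
  intro w
  obtain ⟨w, rfl⟩ := (CartDual.dualTensorEquiv R A' A').surjective w
  induction w using TensorProduct.induction_on with
  | zero => simp
  | add x y hx hy => simp only [map_add, LinearMap.add_apply, hx, hy, add_zero]
  | tmul f g =>
    rw [map_sub, sub_eq_zero]
    simp only [AlgHom.comp_apply, Bialgebra.comulAlgHom_apply]
    have e2 : ∀ t : A' ⊗[R] A', CartDual.dualTensorEquiv R A' A' (f ⊗ₜ g) t =
        LinearMap.mul' R R (TensorProduct.map f g t) := by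
      intro t
      induction t using TensorProduct.induction_on with
      | zero => simp
      | tmul x y => simp
      | add x y hx hy => simp only [map_add, hx, hy]
    have e3 : ∀ t : A ⊗[R] A, CartDual.dualTensorEquiv R A' A' (f ⊗ₜ g)
        (Algebra.TensorProduct.map (e : A →ₐ[R] A') (e : A →ₐ[R] A') t) =
        LinearMap.mul' R R (TensorProduct.map (T (toConv f)).ofConv (T (toConv g)).ofConv t) := by
      intro t
      induction t using TensorProduct.induction_on with
      | zero => simp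
      | tmul x y => simp [hT, e]
      | add x y hx hy => simp only [map_add, hx, hy]
    rw [e3, e2, ← LinearMap.convMul_apply, hTG, AlgHom.toLinearMap_apply, AlgHom.toLinearMap_apply,
      ← map_mul]
    have h := hT (toConv f * toConv g) a
    rw [hTG, AlgHom.toLinearMap_apply, LinearMap.convMul_apply] at h
    exact h

end Iso

end Groth.Agent.OortTate
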