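import Groth.Agent.OortTate.Field
import Groth.Agent.FinHopf.Deligne
import Groth.Prelude.Def_CartDual
import Mathlib.LinearAlgebra.Matrix.NonsingularInverse
import Mathlib.LinearAlgebra.TensorProduct.Tower
import Mathlib.RingTheory.LocalRing.ResidueField.Defs
import Mathlib.FieldTheory.IsAlgClosed.AlgebraicClosure
import Mathlib.RingTheory.MvPolynomial.Basic

/-!
# Hopf algebras of prime rank are cocommutative
-/

open WithConv Coalgebra TensorProduct

universe u
noncomputable section
namespace Groth.Agent.OortTate

variable {R : Type u} [CommRing R] {A : Type u} [CommRing A] [HopfAlgebra R A]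

/-- Restriction of linear forms along the base change. -/
def resConv (T : Type u) [CommRing T] [Algebra R T] :
    WithConv (T ⊗[R] A →ₗ[T] T) →+* WithConv (A →ₗ[R] T) where
  toFun f := toConv ((f.ofConv.restrictScalars R) ∘ₗ TensorProduct.mk R T A 1)
  map_one' := by
    refine WithConv.ext (LinearMap.ext fun a => ?_)
    simp [LinearMap.convOne_def, Algebra.smul_def]
  map_mul' f g := by
    refine WithConv.ext (LinearMap.ext fun a => ?_)
    simp only [LinearMap.comp_apply, LinearMap.restrictScalars_apply, TensorProduct.mk_apply]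
    rw [LinearMap.convMul_apply, LinearMap.convMul_apply, TensorProduct.comul_tmul]
    generalize comul (R := R) a = t
    induction t using TensorProduct.induction_on with
    | zero => simp
    | tmul x y => simp [TensorProduct.AlgebraTensorModule.tensorTensorTensorComm_tmul]
    | add x y hx hy => simp only [tmul_add, map_add, hx, hy]
  map_zero' := WithConv.ext (LinearMap.ext fun a => by simp)
  map_add' f g := WithConv.ext (LinearMap.ext fun a => by simp)

lemma resConv_lift (T : Type u) [CommRing T] [Algebra R T] (f : WithConv (A →ₗ[R] T)) :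
    resConv T (toConv (f.ofConv.liftBaseChange T)) = f :=
  WithConv.ext (LinearMap.ext fun a => by simp [resConv])

/-- Post-composition with an algebra map. -/
def postConv {S T : Type u} [CommRing S] [CommRing T] [Algebra R S] [Algebra R T] (φ : S →ₐ[R] T) :
    WithConv (A →ₗ[R] S) →+* WithConv (A →ₗ[R] T) where
  toFun f := toConv (φ.toLinearMap ∘ₗ f.ofConv)
  map_one' := WithConv.ext (LinearMap.ext fun a => by simp [LinearMap.convOne_def])
  map_mul' f g := WithConv.ext (LinearMap.algHom_comp_convMul_distrib φ f g)
  map_zero' := WithConv.ext (LinearMap.ext fun a => by simp)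
  map_add' f g := WithConv.ext (LinearMap.ext fun a => by simp)

variable {p : ℕ} [Fact p.Prime]

/-- Commutation of linear forms over a local ring. -/
theorem conv_comm_local [IsLocalRing R] [Module.Free R A] [Module.Finite R A]
    (hd : Module.finrank R A = p) (f g : WithConv (A →ₗ[R] R)) : f * g = g * f := by
  classical
  let b : Module.Basis (Fin p) R A := (Module.finBasisOfFinrankEq R A hd)
  let S := MvPolynomial (Fin p) R
  let ξ : WithConv (A →ₗ[R] S) := toConv (b.constr R (fun i => (MvPolynomial.X i : S)))
  let M : Matrix (Fin p) (Fin p) S := .of fun i j => (ξ ^ (j : ℕ)).ofConv (b i)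
  -- the determinant is primitive
  let K := AlgebraicClosure (IsLocalRing.ResidueField R)
  have hdK : Module.finrank K (K ⊗[R] A) = p := by rw [Module.finrank_baseChange, hd]
  obtain ⟨ξK, hξK⟩ := exists_powers_li (p := p) hdK
  let bK : Module.Basis (Fin p) K (K ⊗[R] A) := b.baseChange K
  let φ : S →ₐ[R] K := MvPolynomial.aeval fun i => ξK.ofConv (bK i)
  have hξ : postConv (A := A) φ ξ = resConv K ξK := by
    refine WithConv.ext (b.ext fun i => ?_)
    simp [postConv, resConv, ξ, φ, bK]
    exact MvPolynomial.aeval_X _ i
  have hM : φ M.det ≠ 0 := by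
    rw [AlgHom.map_det]
    have hMi : φ.mapMatrix M = Matrix.of fun i (j : Fin p) => (ξK ^ (j : ℕ)).ofConv (bK i) := by
      ext i j
      have h := congr((($(hξ)) ^ (j : ℕ)).ofConv (b i))
      rw [← map_pow, ← map_pow] at h
      simpa [postConv, resConv, M, bK] using h
    rw [hMi]
    refine IsUnit.ne_zero ((Matrix.isUnit_iff_isUnit_det _).mp ?_)
    rw [← Matrix.linearIndependent_cols_iff_isUnit]
    have hli := hξK.map' ((bK.constr K).symm.toLinearMap ∘ₗ
      (WithConv.linearEquiv K (K ⊗[R] A →ₗ[K] K)).toLinearMap)
      (LinearMap.ker_eq_bot.mpr fun x y h => WithConv.ext (by simpa using h))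
    rw [show (Matrix.of fun i (j : Fin p) => (ξK ^ (j : ℕ)).ofConv (bK i)).col =
      fun (j : Fin p) => (bK.constr K).symm ((ξK ^ (j : ℕ)).ofConv) from by
        funext j i; simp [Module.Basis.constr]]
    exact hli
  -- commutation after multiplying by the determinant
  have hgen : ∀ F : WithConv (A →ₗ[R] S), ∃ c : Fin p → S, M.det • F = ∑ j, c j • ξ ^ (j : ℕ) := by
    intro F
    refine ⟨M.adjugate.mulVec fun i => F.ofConv (b i), WithConv.ext (b.ext fun i => ?_)⟩
    have h := congr_fun (Matrix.mulVec_mulVec (fun i => F.ofConv (b i)) M M.adjugate) i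
    rw [Matrix.mul_adjugate, Matrix.smul_mulVec, Matrix.one_mulVec] at h
    simp only [Pi.smul_apply] at h
    rw [ofConv_smul, LinearMap.smul_apply, ← h, ofConv_sum, LinearMap.sum_apply]
    simp [Matrix.mulVec, dotProduct, M, mul_comm]
  have hcomm : ∀ F G : WithConv (A →ₗ[R] S), (M.det * M.det) • (F * G) = (M.det * M.det) • (G * F) := by
    intro F G
    obtain ⟨c, hc⟩ := hgen F
    obtain ⟨d, hd'⟩ := hgen G
    rw [← smul_mul_smul_comm, ← smul_mul_smul_comm, hc, hd']
    exact (Commute.sum_left _ _ _ fun i _ => Commute.sum_right _ _ _ fun j _ =>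
      (((Commute.refl ξ).pow_pow _ _).smul_left _).smul_right _).eq
  refine WithConv.ext (LinearMap.ext fun a => ?_)
  let ι : R →ₐ[R] S := Algebra.ofId R S
  have h := congr(($(hcomm (postConv ι f) (postConv ι g))).ofConv a)
  rw [← map_mul, ← map_mul, ofConv_smul, ofConv_smul, LinearMap.smul_apply, LinearMap.smul_apply,
    smul_eq_mul, smul_eq_mul, ← sub_eq_zero, ← mul_sub] at h
  change M.det * M.det * (MvPolynomial.C ((f * g).ofConv a) - MvPolynomial.C ((g * f).ofConv a)) = 0 at h
  rw [← map_sub] at h
  rw [← sub_eq_zero]
  obtain ⟨α, hα⟩ : ∃ α, IsUnit (MvPolynomial.coeff α (M.det * M.det)) := by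
    by_contra! hall
    apply mul_ne_zero hM hM
    rw [← map_mul, MvPolynomial.aeval_def, MvPolynomial.eval₂_eq]
    refine Finset.sum_eq_zero fun α _ => ?_
    rw [IsScalarTower.algebraMap_apply R (IsLocalRing.ResidueField R) K, IsLocalRing.ResidueField.algebraMap_eq,
      (IsLocalRing.residue_eq_zero_iff _).mpr ((IsLocalRing.mem_maximalIdeal _).mpr (hall α)), map_zero,
      zero_mul]
  have h' := congr(MvPolynomial.coeff α $h)
  rw [mul_comm (M.det * M.det), MvPolynomial.coeff_C_mul, MvPolynomial.coeff_zero, mul_comm] at h'
  exact hα.mul_right_eq_zero.mp h'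

variable [Module.Finite R A] [Module.Projective R A]
  (hrk : ∀ q : PrimeSpectrum R, Module.rankAtStalk A q = p)
include hrk

theorem conv_comm (f g : WithConv (A →ₗ[R] R)) : f * g = g * f := by
  refine WithConv.ext (LinearMap.ext fun a => ?_)
  refine Module.eq_of_localization_maximal (fun P _ => Localization.AtPrime P)
    (fun P _ => Algebra.linearMap R (Localization.AtPrime P)) _ _ fun P hP => ?_
  let T := Localization.AtPrime P
  have : Module.Free T (T ⊗[R] A) := Module.free_of_flat_of_isLocalRing
  have hr : Module.finrank T (T ⊗[R] A) = p :=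
    (Module.rankAtStalk_eq_finrank_tensorProduct ⟨P, hP.isPrime⟩).symm.trans (hrk _)
  let up : WithConv (A →ₗ[R] R) →+* WithConv (A →ₗ[R] T) := postConv (Algebra.ofId R T)
  have h : up (f * g) = up (g * f) := by
    rw [map_mul, map_mul, ← resConv_lift T (up f), ← resConv_lift T (up g), ← map_mul, ← map_mul,
      conv_comm_local hr]
  exact congr(($h).ofConv a)

/-- A Hopf algebra of prime rank is cocommutative. -/
theorem isCocomm : Coalgebra.IsCocomm R A := by
  refine ⟨LinearMap.ext fun a => ?_⟩
  rw [← sub_eq_zero, ← Module.forall_dual_apply_eq_zero_iff R]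
  intro φ
  obtain ⟨w, rfl⟩ := (CartDual.dualTensorEquiv R A A).surjective φ
  induction w using TensorProduct.induction_on with
  | zero => simp
  | add x y hx hy => simp only [map_add, LinearMap.add_apply, hx, hy, add_zero]
  | tmul f g =>
    have h := congr(($(conv_comm hrk (toConv f) (toConv g))).ofConv a)
    rw [LinearMap.convMul_apply, LinearMap.convMul_apply] at h
    simp only [map_sub, LinearMap.comp_apply, LinearEquiv.coe_coe]
    generalize comul (R := R) a = t at h ⊢
    have e1 : ∀ t : A ⊗[R] A, CartDual.dualTensorEquiv R A A (f ⊗ₜ g) (TensorProduct.comm R A A t) =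
        LinearMap.mul' R R (TensorProduct.map g f t) := by
      intro t
      induction t using TensorProduct.induction_on with
      | zero => simp
      | tmul x y => simp [mul_comm]
      | add x y hx hy => simp only [map_add, hx, hy]
    have e2 : ∀ t : A ⊗[R] A, CartDual.dualTensorEquiv R A A (f ⊗ₜ g) t =
        LinearMap.mul' R R (TensorProduct.map f g t) := by
      intro t
      induction t using TensorProduct.induction_on with
      | zero => simp
      | tmul x y => simp
      | add x y hx hy => simp only [map_add, hx, hy]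
    rw [e1, e2, sub_eq_zero]
    exact h.symm

/-- A Hopf algebra of prime rank is killed by the prime. -/
theorem id_pow_eq_one : (toConv (AlgHom.id R A)) ^ p = 1 := by
  have := isCocomm hrk
  exact FinHopf.id_pow_rank_eq_one p hrk

end Groth.Agent.OortTate
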