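import Groth.Agent.OortTate.Basic
import Groth.Prelude.Def_CartDual
import Mathlib.RingTheory.Coalgebra.Convolution

/-!
# The power maps on the dual Hopf algebra
-/

open WithConv Coalgebra TensorProduct

universe u
noncomputable section
namespace Groth.Agent.OortTate

variable {p : ℕ} [Fact p.Prime] {R : Type u} [CommRing R] {A : Type u} [CommRing A] [HopfAlgebra R A]
  [Coalgebra.IsCocomm R A] [Module.Finite R A] [Module.Projective R A] {χ : (ZMod p)ˣ →* Rˣ} {u : R}

omit [Fact p.Prime] in
/-- The power map of the dual is the transpose of the power map. -/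
lemma dual_pw (n : ℕ) (f : CartDual.D R A) (a : A) :
    (pw R (CartDual.D R A) n f).ofConv a = f.ofConv (pw R A n a) := by
  induction n generalizing f a with
  | zero =>
    simp only [pw, SGA3b.powConv, pow_zero, AlgHom.convOne_def, ofConv_toConv, AlgHom.comp_apply,
      Algebra.ofId_apply, Bialgebra.counitAlgHom_apply, CartDual.coalgebra_counit_apply]
    simp [Algebra.algebraMap_eq_smul_one, CartDual.coe_apply, mul_comm]
  | succ n ih =>
    simp only [pw, SGA3b.powConv, pow_succ, AlgHom.convMul_apply]
    simp only [pw, SGA3b.powConv] at ih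
    set gD := (toConv (AlgHom.id R (CartDual.D R A)) ^ n).ofConv
    set gA := (toConv (AlgHom.id R A) ^ n).ofConv
    have key : ∀ y : CartDual.D R A ⊗[R] CartDual.D R A,
        ((Algebra.TensorProduct.lift gD (AlgHom.id R (CartDual.D R A)) fun _ _ => Commute.all _ _) y).ofConv a =
          CartDual.ev₂ R A y (TensorProduct.map gA.toLinearMap LinearMap.id (comul (R := R) a)) := by
      intro y
      induction y using TensorProduct.induction_on with
      | zero => simp
      | add y y' hy hy' => simp only [map_add, ofConv_add, LinearMap.add_apply, hy, hy']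
      | tmul x z =>
        rw [Algebra.TensorProduct.lift_tmul, AlgHom.id_apply, LinearMap.convMul_apply]
        generalize comul (R := R) a = t
        induction t using TensorProduct.induction_on with
        | zero => simp
        | add t t' ht ht' => simp only [map_add, ht, ht']
        | tmul a₁ a₂ => simp [CartDual.coe_apply, ih]
    rw [key]
    have key' : ∀ t : A ⊗[R] A, CartDual.ev₂ R A (comul f) (TensorProduct.map gA.toLinearMap LinearMap.id t) =
        f.ofConv (Algebra.TensorProduct.lift gA (AlgHom.id R A) (fun _ _ => Commute.all _ _) t) := by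
      intro t
      induction t using TensorProduct.induction_on with
      | zero => simp
      | add t t' ht ht' => simp only [map_add, ht, ht']
      | tmul a₁ a₂ => simp [CartDual.coe_apply]
    exact key' _

variable (hp : (toConv (AlgHom.id R A)) ^ p = 1)
include hp

omit [Fact p.Prime] in
/-- The dual is killed by `p`. -/
lemma dual_id_pow : (toConv (AlgHom.id R (CartDual.D R A))) ^ p = 1 := by
  refine WithConv.ext (AlgHom.ext fun f => WithConv.ext (LinearMap.ext fun a => ?_))
  have h := dual_pw p f a
  simp only [pw, SGA3b.powConv] at h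
  rw [h, hp]
  simp [AlgHom.convOne_def, Algebra.algebraMap_eq_smul_one, CartDual.coe_apply, mul_comm]

omit hp

lemma dual_proj (i : ℕ) (f : CartDual.D R A) (a : A) :
    (P R (CartDual.D R A) u χ i f).ofConv a = f.ofConv (P R A u χ i a) := by
  simp only [P_apply, ofConv_smul, LinearMap.smul_apply, map_smul, map_sum]
  congr 1
  rw [ofConv_sum, LinearMap.sum_apply]
  exact Finset.sum_congr rfl fun m _ => by rw [ofConv_smul, LinearMap.smul_apply, dual_pw]

lemma Q_pw (hp : (toConv (AlgHom.id R A)) ^ p = 1) (i : ℕ) (m : (ZMod p)ˣ) (a : A) :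
    Q R A u χ i (pw R A (m : ZMod p).val a) = (χ m : R) ^ i • Q R A u χ i a := by
  rw [← (mem_eigenAug.mp (Q_mem hp i a)).2 m]
  have hc : ∀ b : A, P R A u χ i (pw R A (m : ZMod p).val b) = pw R A (m : ZMod p).val (P R A u χ i b) := by
    intro b
    simp only [P_apply, map_smul, map_sum, ← AlgHom.comp_apply, pw_comp, mul_comm]
  simp [Q, ← hc, counit_pw]

/-- Restriction of linear forms identifies the eigen parts of the dual with the duals. -/
theorem dual_eigen_bijective (hs : Sep χ u) (hp : (toConv (AlgHom.id R A)) ^ p = 1) (i : ℕ) :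
    Function.Bijective (fun f : OortTate.eigenAug R (CartDual.D R A) p χ i =>
      ((CartDual.toDual R A) (f : CartDual.D R A)).comp (OortTate.eigenAug R A p χ i).subtype) := by
  refine ⟨fun f g hfg => ?_, fun φ => ?_⟩
  · refine Subtype.ext (WithConv.ext (LinearMap.ext fun a => ?_))
    have hQ : ∀ h : OortTate.eigenAug R (CartDual.D R A) p χ i,
        (h : CartDual.D R A).ofConv a = (h : CartDual.D R A).ofConv (Q R A u χ i a) := by
      intro h
      have h0 : P R (CartDual.D R A) u χ i (h : CartDual.D R A) = h := by
        rw [P_of_mem hs i i h.2, if_pos rfl]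
      conv_lhs => rw [← h0]
      conv_rhs => rw [show (Q R A u χ i a) = P R A u χ i (a - algebraMap R A (counit a)) from rfl,
        ← dual_proj, h0]
      rw [dual_proj]
      have h1 := (mem_eigenAug.mp h.2).1
      rw [CartDual.coalgebra_counit_apply] at h1
      conv_rhs => rw [← h0, dual_proj]
      simp only [map_sub, Algebra.algebraMap_eq_smul_one, map_smul, smul_eq_mul]
      rw [← dual_proj i _ (1 : A), h0, ← CartDual.coe_apply, h1, mul_zero, sub_zero]
    rw [hQ f, hQ g]
    exact congr($hfg ⟨_, Q_mem hp i a⟩)
  · refine ⟨⟨toConv (φ ∘ₗ (Q R A u χ i).codRestrict _ (Q_mem hp i)), mem_eigenAug.mpr ⟨?_, fun m => ?_⟩⟩, ?_⟩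
    · rw [CartDual.coalgebra_counit_apply, CartDual.coe_apply, ofConv_toConv, LinearMap.comp_apply]
      convert map_zero φ
      exact Subtype.ext (by simp [Q])
    · refine WithConv.ext (LinearMap.ext fun a => ?_)
      rw [dual_pw, ofConv_smul, LinearMap.smul_apply]
      simp only [ofConv_toConv, LinearMap.comp_apply, ← map_smul]
      exact congrArg φ (Subtype.ext ((Q_pw (u := u) hp i m a).trans (map_smul (Q R A u χ i) _ _).symm))
    · refine LinearMap.ext fun a => congrArg φ (Subtype.ext ?_)
      show Q R A u χ i (a : A) = a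
      rw [Q_of_mem hs i i a.2, if_pos rfl]

end Groth.Agent.OortTate
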