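import Groth.Agent.OortTate.Basic
import Groth.Agent.FinHopf.Power
import Groth.Agent.FinHopf.HeightOne
import Groth.Agent.FinHopf.Aug
import Mathlib.Data.Nat.Prime.Factorial
import Mathlib.LinearAlgebra.Dual.Lemmas
import Mathlib.GroupTheory.SpecificGroups.Cyclic

/-!
# Hopf algebras of prime order over an algebraically closed field
-/

open WithConv Coalgebra TensorProduct Groth.Agent.FinHopf

universe u
noncomputable section
namespace Groth.Agent.OortTate

variable {p : ℕ} [Fact p.Prime] {K : Type u} [Field K] {A : Type u} [CommRing A] [HopfAlgebra K A]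
  [Module.Finite K A]

omit [Fact p.Prime] [Module.Finite K A] in
lemma point_pw (φ : A →ₐ[K] K) (n : ℕ) (a : A) :
    φ (pw K A n a) = (toConv φ ^ n).ofConv a := by
  have h := (pointsMap (A := A) φ).map_pow (toConv (AlgHom.id K A)) n
  exact congr(($h).ofConv a)

omit [Module.Finite K A] in
/-- Powers of an invariant linear form on powers of the augmentation ideal. -/
lemma convPow_invDer (δ : A →ₗ[K] K)
    (hδ : ∀ a b : A, δ (a * b) = counit (R := K) a * δ b + counit (R := K) b * δ a) (t : ℕ) (a : A) :
    ((toConv δ) ^ (t + 1)).ofConv a = ((toConv δ) ^ t).ofConv (invDer δ hδ a) := by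
  rw [pow_succ, LinearMap.convMul_apply]
  show _ = ((toConv δ) ^ t).ofConv (TensorProduct.rid K A (δ.lTensor A (comul a)))
  generalize comul (R := K) a = t'
  induction t' using TensorProduct.induction_on with
  | zero => simp
  | add x y hx hy => simp only [map_add, hx, hy]
  | tmul x y => simp [mul_comm]

section Infinitesimal
variable (δ : A →ₗ[K] K)
  (hδ : ∀ a b : A, δ (a * b) = counit (R := K) a * δ b + counit (R := K) b * δ a)
include hδ

omit [Module.Finite K A] in
lemma invDer_mem_pow (s : ℕ) {a : A} (ha : a ∈ aug K A ^ (s + 1)) : invDer δ hδ a ∈ aug K A ^ s := by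
  induction s generalizing a with
  | zero => simp
  | succ s ih =>
    rw [pow_succ] at ha
    refine Submodule.mul_induction_on (C := fun z => invDer δ hδ z ∈ aug K A ^ (s + 1)) ha
      (fun x hx y hy => ?_) fun x y hx hy => ?_
    · show invDer δ hδ (x * y) ∈ _
      rw [Derivation.leibniz, smul_eq_mul, smul_eq_mul]
      refine add_mem (Ideal.mul_mem_right _ _ hx) ?_
      rw [mul_comm, pow_succ]
      exact Ideal.mul_mem_mul (ih hx) hy
    · show invDer δ hδ (x + y) ∈ _
      rw [map_add]; exact add_mem hx hy

omit [Module.Finite K A] in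
lemma convPow_eq_zero {t s : ℕ} (hts : t < s) {a : A} (ha : a ∈ aug K A ^ s) :
    ((toConv δ) ^ t).ofConv a = 0 := by
  induction t generalizing s a with
  | zero =>
    have : a ∈ aug K A := Ideal.pow_le_self (by omega) ha
    simp [LinearMap.convOne_def, mem_aug.mp this]
  | succ t ih =>
    obtain ⟨s, rfl⟩ : ∃ r, s = r + 1 := ⟨s - 1, by omega⟩
    rw [convPow_invDer δ hδ]
    exact ih (by omega) (invDer_mem_pow δ hδ s ha)

omit [Module.Finite K A] in
lemma convPow_pow {y : A} (hy : y ∈ aug K A) (hy1 : δ y = 1) (t : ℕ) :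
    ((toConv δ) ^ t).ofConv (y ^ t) = (t.factorial : K) := by
  induction t with
  | zero => simp [LinearMap.convOne_def]
  | succ t ih =>
    rw [convPow_invDer δ hδ, Derivation.leibniz_pow, Nat.add_sub_cancel, map_nsmul, smul_eq_mul,
      ← sub_add_cancel (invDer δ hδ y) 1, mul_add, mul_one, map_add, ih,
      convPow_eq_zero δ hδ (Nat.lt_succ_self t), zero_add, Nat.factorial_succ, Nat.cast_mul, nsmul_eq_mul]
    rw [pow_succ]
    refine Ideal.mul_mem_mul (Ideal.pow_mem_pow hy t) ?_
    rw [mem_aug, map_sub, Bialgebra.counit_one, counit_invDer, hy1, sub_self]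

omit [Module.Finite K A] in
lemma pow_ne_zero_of_delta [CharP K p] {y : A} (hy : y ∈ aug K A) (hy1 : δ y = 1) {t : ℕ} (ht : t < p) :
    y ^ t ≠ 0 := by
  intro h
  have := convPow_pow δ hδ hy hy1 t
  rw [h, map_zero, eq_comm, CharP.cast_eq_zero_iff K p, Nat.Prime.dvd_factorial Fact.out] at this
  omega

omit [Module.Finite K A] in
lemma delta_linearIndependent [CharP K p] {y : A} (hy : y ∈ aug K A) (hy1 : δ y = 1) :
    LinearIndependent K (fun j : Fin p => (toConv δ) ^ (j : ℕ)) := by
  classical
  rw [Fintype.linearIndependent_iff]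
  intro c hc
  by_contra! hne
  obtain ⟨m, hm, hmax⟩ := Finset.exists_max_image (Finset.univ.filter fun j => c j ≠ 0) id
    (by obtain ⟨i, hi⟩ := hne; exact ⟨i, by simp [hi]⟩)
  have h := congr(($hc).ofConv (y ^ (m : ℕ)))
  simp only [ofConv_sum, LinearMap.sum_apply, ofConv_smul, LinearMap.smul_apply, ofConv_zero,
    LinearMap.zero_apply] at h
  rw [Finset.sum_eq_single m, convPow_pow δ hδ hy hy1, smul_eq_mul] at h
  · rcases mul_eq_zero.mp h with h | h
    · exact (Finset.mem_filter.mp hm).2 h
    · rw [CharP.cast_eq_zero_iff K p, Nat.Prime.dvd_factorial Fact.out] at h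
      omega
  · intro j _ hj
    by_cases hcj : c j = 0
    · simp [hcj]
    · have : (j : ℕ) < m := lt_of_le_of_ne (hmax j (by simp [hcj])) (fun e => hj (Fin.ext e))
      rw [convPow_eq_zero δ hδ this (Ideal.pow_mem_pow hy _), smul_zero]
  · simp

omit [Module.Finite K A] in
lemma delta_pw (n : ℕ) (a : A) : δ (pw K A n a) = (n : K) * δ a := by
  induction n generalizing a with
  | zero =>
    have h1 : δ 1 = 0 := by simpa using hδ 1 1
    simp [pw, SGA3b.powConv, AlgHom.convOne_def, Algebra.algebraMap_eq_smul_one, h1]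
  | succ n ih =>
    simp only [pw, SGA3b.powConv, pow_succ, AlgHom.convMul_apply]
    simp only [pw, SGA3b.powConv] at ih
    have hε : ∀ x, counit (R := K) ((toConv (AlgHom.id K A) ^ n).ofConv x) = counit (R := K) x :=
      fun x => counit_pw K A n x
    have key : ∀ t : A ⊗[K] A, δ (Algebra.TensorProduct.lift (toConv (AlgHom.id K A) ^ n).ofConv
        (AlgHom.id K A) (fun _ _ => Commute.all _ _) t) =
        δ (TensorProduct.lid K A (counit.rTensor A t)) +
          (n : K) * δ (TensorProduct.rid K A (counit.lTensor A t)) := by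
      intro t
      induction t using TensorProduct.induction_on with
      | zero => simp
      | add x y hx hy => simp only [map_add, hx, hy]; ring
      | tmul x y => simp [hδ, ih, hε]; ring
    rw [key, rTensor_counit_comul, lTensor_counit_comul]
    simp; ring

end Infinitesimal

/-- The two kinds of group schemes of order `p` over an algebraically closed field. -/
inductive Shape (p : ℕ) (K A : Type u) [Field K] [CommRing A] [HopfAlgebra K A] : Prop
  | etale (γ : A →ₐ[K] K) (hγ : toConv γ ^ p = 1)
      (hli : LinearIndependent K (fun j : Fin p => ((toConv γ) ^ (j : ℕ)).ofConv.toLinearMap))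
      (hbij : Function.Bijective (fun (a : A) (j : Fin p) => ((toConv γ) ^ (j : ℕ)).ofConv a)) :
      Shape p K A
  | connected [CharP K p] (δ : A →ₗ[K] K)
      (hδ : ∀ a b : A, δ (a * b) = counit (R := K) a * δ b + counit (R := K) b * δ a)
      (x : A) (hx : x ∈ aug K A) (hx1 : δ x = 1) : Shape p K A

theorem shape [IsAlgClosed K] (hd : Module.finrank K A = p) : Shape p K A := by
  classical
  have hp : p.Prime := Fact.out
  obtain ⟨e, hH, g, -, -, hinf, -, Φ, hΦ⟩ := exists_decomposition (k := K) (A := A)
  have hdim := finrank_eq_of_decomposition Φ hΦ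
  rw [hd] at hdim
  rcases (Nat.dvd_prime hp).mp ⟨_, hdim⟩ with hg | hg
  · obtain rfl := hg
    -- connected
    rw [one_mul] at hdim
    let q := Ideal.Quotient.mkₐ K (Ideal.span ({e} : Set A))
    have hq : Function.Bijective q := by
      have hs : Function.Surjective q := Ideal.Quotient.mkₐ_surjective _ _
      refine ⟨?_, hs⟩
      exact (LinearMap.injective_iff_surjective_of_finrank_eq_finrank (f := q.toLinearMap)
        (hd.trans hdim)).mpr hs
    have hA : IsInfinitesimal K A := by
      intro x hx
      obtain ⟨n, hn⟩ := hinf (q x) (by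
        rw [mem_aug]
        exact mem_aug.mp hx)
      exact ⟨n, hq.1 (by rw [map_pow, hn, map_zero])⟩
    have hpK : (p : K) = 0 := by
      by_contra h
      have := etale_of_finrank_ne_zero K A (by rwa [hd])
      have h2 := aug_sq_eq_of_formallyUnramified K A
      have h3 : ∀ n, 1 ≤ n → aug K A ^ n = aug K A := by
        intro n hn
        induction n, hn using Nat.le_induction with
        | base => exact pow_one _
        | succ n _ ih => rw [pow_succ, ih, ← pow_two]; exact h2
      have h4 := aug_pow_finrank hA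
      rw [hd, h3 p hp.one_le] at h4
      have h5 : (Bialgebra.counitAlgHom K A).toLinearMap.ker = ⊥ := by
        rw [eq_bot_iff]
        intro x hx
        have : x ∈ aug K A := hx
        rw [h4] at this
        simpa using this
      have := LinearMap.finrank_le_finrank_of_injective (LinearMap.ker_eq_bot.mp h5)
      rw [hd, Module.finrank_self] at this
      have := hp.two_le
      omega
    have : CharP K p := (CharP.charP_iff_prime_eq_zero hp).mpr hpK
    obtain ⟨d, x, D, hx, hD, hgen⟩ := exists_coords hA
    rcases Nat.eq_zero_or_pos d with rfl | hd0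
    · exfalso
      have h2 : aug K A ^ 2 = aug K A := le_antisymm (Ideal.pow_le_self two_ne_zero) fun y hy => by
        obtain ⟨c, hc⟩ := hgen y hy
        simpa using hc
      have h3 : ∀ n, 1 ≤ n → aug K A ^ n = aug K A := by
        intro n hn
        induction n, hn using Nat.le_induction with
        | base => exact pow_one _
        | succ n _ ih => rw [pow_succ, ih, ← pow_two]; exact h2
      have h4 := aug_pow_finrank hA
      rw [hd, h3 p hp.one_le] at h4
      have h5 : (Bialgebra.counitAlgHom K A).toLinearMap.ker = ⊥ := by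
        rw [eq_bot_iff]
        intro x hx
        have : x ∈ aug K A := hx
        rw [h4] at this
        simpa using this
      have := LinearMap.finrank_le_finrank_of_injective (LinearMap.ker_eq_bot.mp h5)
      rw [hd, Module.finrank_self] at this
      have := hp.two_le
      omega
    · let i : Fin d := ⟨0, hd0⟩
      refine .connected ((Bialgebra.counitAlgHom K A).toLinearMap ∘ₗ (D i).toLinearMap) (fun a b => ?_)
        (x i) (hx i) ?_
      · simp [Derivation.leibniz]
      · simp [hD]
  · obtain rfl : p = g := hg.symm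
    -- etale
    have hB : Module.finrank K (A ⧸ Ideal.span ({e} : Set A)) = 1 :=
      (mul_eq_left₀ hp.pos.ne').mp hdim.symm
    have hb : Function.Bijective (Algebra.ofId K (A ⧸ Ideal.span ({e} : Set A))) := by
      have : Nontrivial (A ⧸ Ideal.span ({e} : Set A)) :=
        Module.nontrivial_of_finrank_eq_succ hB
      exact ⟨(algebraMap K _).injective,
        (LinearMap.injective_iff_surjective_of_finrank_eq_finrank
          (f := (Algebra.ofId K (A ⧸ Ideal.span ({e} : Set A))).toLinearMap)
          (by rw [hB, Module.finrank_self])).mp (algebraMap K _).injective⟩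
    let ψ := (AlgEquiv.ofBijective _ hb).symm.toAlgHom
    let pt : Fin p → WithConv (A →ₐ[K] K) := fun i =>
      toConv (ψ.comp ((Pi.evalAlgHom K _ i).comp Φ))
    have hpt : Function.Injective pt := by
      intro i j hij
      obtain ⟨a, ha⟩ := hΦ.2 (Pi.single i 1)
      have := congr(($hij).ofConv a)
      simp only [pt, ofConv_toConv, AlgHom.comp_apply, Pi.evalAlgHom_apply, ha, Pi.single_eq_same,
        map_one] at this
      by_contra hne
      rw [Pi.single_eq_of_ne (Ne.symm hne), map_zero] at this
      exact one_ne_zero this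
    have hLI : LinearIndependent K (fun φ : WithConv (A →ₐ[K] K) => φ.ofConv.toLinearMap) :=
      (linearIndependent_algHom_toLinearMap K A K).comp _ (fun _ _ h => WithConv.ext h)
    have : Finite (WithConv (A →ₐ[K] K)) := hLI.finite
    let : Fintype (WithConv (A →ₐ[K] K)) := Fintype.ofFinite _
    have hcard : Fintype.card (WithConv (A →ₐ[K] K)) = p := by
      refine le_antisymm ?_ (by simpa using Fintype.card_le_of_injective pt hpt)
      have := hLI.fintype_card_le_finrank
      rwa [Subspace.dual_finrank_eq, hd] at this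
    rw [← Nat.card_eq_fintype_card] at hcard
    have := isCyclic_of_prime_card hcard
    obtain ⟨γ, hγ⟩ := IsCyclic.exists_generator (α := WithConv (A →ₐ[K] K))
    have hord : orderOf γ = p := by rw [orderOf_eq_card_of_forall_mem_zpowers hγ, hcard]
    have hli : LinearIndependent K (fun j : Fin p => (γ ^ (j : ℕ)).ofConv.toLinearMap) :=
      hLI.comp _ fun i j h => Fin.ext (pow_injOn_Iio_orderOf (by simp [hord]) (by simp [hord]) h)
    refine .etale γ.ofConv (by rw [toConv_ofConv, ← hord, pow_orderOf_eq_one]) (by simpa using hli) ?_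
    let ev : A →ₗ[K] (Fin p → K) := LinearMap.pi fun j => (γ ^ (j : ℕ)).ofConv.toLinearMap
    have hinj : Function.Injective ev := by
      rw [injective_iff_map_eq_zero]
      intro a ha
      refine (Module.forall_dual_apply_eq_zero_iff K a).mp fun φ => ?_
      have htop := hli.span_eq_top_of_card_eq_finrank' (by rw [Fintype.card_fin, Subspace.dual_finrank_eq, hd])
      have hφ : φ ∈ Submodule.span K (Set.range fun j : Fin p => (γ ^ (j : ℕ)).ofConv.toLinearMap) :=
        htop ▸ Submodule.mem_top
      induction hφ using Submodule.span_induction with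
      | mem f hf => obtain ⟨j, rfl⟩ := hf; exact congr_fun ha j
      | zero => simp
      | add f g _ _ hf hg => simp [hf, hg]
      | smul c f _ hf => simp [hf]
    exact ⟨hinj, (LinearMap.injective_iff_surjective_of_finrank_eq_finrank
      (f := ev) (by simp [hd])).mp hinj⟩

variable (hd : Module.finrank K A = p)
include hd

/-- The dual algebra is generated by one element. -/
theorem exists_powers_li [IsAlgClosed K] :
    ∃ ξ : WithConv (A →ₗ[K] K), LinearIndependent K (fun j : Fin p => ξ ^ (j : ℕ)) := by
  cases shape hd with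
  | etale γ hγ hli hbij =>
    refine ⟨toConv γ.toLinearMap, ?_⟩
    refine LinearIndependent.of_comp (WithConv.linearEquiv K (A →ₗ[K] K)).toLinearMap ?_
    convert hli using 1
    funext j
    show ((toConv γ.toLinearMap) ^ (j : ℕ)).ofConv = _
    rw [← AlgHom.toLinearMap_convPow]
  | connected δ hδ x hx hx1 => exact ⟨toConv δ, delta_linearIndependent δ hδ hx hx1⟩

/-- An eigenvector whose powers are nonzero. -/
theorem exists_eigen_powers [IsAlgClosed K] {χ : (ZMod p)ˣ →* Kˣ} {u : K} (hs : Sep χ u)
    (hp : (toConv (AlgHom.id K A)) ^ p = 1)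
    (hχp : (p : K) = 0 → ∀ m : (ZMod p)ˣ, (χ m : K) = ((m : ZMod p).val : K)) :
    ∃ f ∈ OortTate.eigenAug K A p χ 1, ∀ t, t < p → f ^ t ≠ 0 := by
  classical
  cases shape hd with
  | etale γ hγ hli hbij =>
    let v : Fin p → K := fun j => if h : ((j : ℕ) : ZMod p) = 0 then 0 else (χ (Units.mk0 _ h) : K)
    obtain ⟨f, hf⟩ := hbij.2 v
    have hj : ∀ n : ℕ, ((toConv γ) ^ n).ofConv f =
        if h : ((n : ℕ) : ZMod p) = 0 then 0 else (χ (Units.mk0 _ h) : K) := by
      intro n
      have := congr_fun hf ⟨n % p, Nat.mod_lt _ (Fact.out : p.Prime).pos⟩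
      simp only [v] at this
      rw [pow_eq_pow_mod n hγ, this]
      simp [ZMod.natCast_mod]
    have h0 : counit (R := K) f = 0 := by
      have := hj 0
      simpa [AlgHom.convOne_def] using this
    refine ⟨f, mem_eigenAug.mpr ⟨h0, fun m => hbij.1 (funext fun j => ?_)⟩, fun t ht h => ?_⟩
    · simp only
      rw [point_pw, toConv_ofConv, ← pow_mul, hj, map_smul, hj, pow_one, smul_eq_mul]
      by_cases h : ((j : ℕ) : ZMod p) = 0
      · rw [dif_pos h, dif_pos (by simp [h]), mul_zero]
      · have h' : (((j : ℕ) * (m : ZMod p).val : ℕ) : ZMod p) ≠ 0 := by simp [h, m.ne_zero]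
        rw [dif_neg h, dif_neg h', ← Units.val_mul, ← map_mul]
        congr 2
        exact Units.ext (by simp [mul_comm])
    · have := congr(((toConv γ) ^ 1).ofConv $h)
      rw [map_pow, map_zero, hj 1, dif_neg (by simp)] at this
      exact pow_ne_zero t (Units.ne_zero _) this
  | connected δ hδ x hx hx1 =>
    refine ⟨Q K A u χ 1 x, Q_mem hp 1 x, fun t ht => pow_ne_zero_of_delta δ hδ ?_ ?_ ht⟩
    · exact mem_aug.mpr (mem_eigenAug.mp (Q_mem hp 1 x)).1
    · have hp0 : (p : K) = 0 := CharP.cast_eq_zero K p
      have hQ : Q K A u χ 1 x = P K A u χ 1 x := by simp [Q, mem_aug.mp hx]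
      rw [hQ, P_apply, map_smul, map_sum]
      simp only [map_smul, delta_pw δ hδ, hx1, mul_one, smul_eq_mul, pow_one, ← hχp hp0, chi_inv_mul,
        Finset.sum_const, Finset.card_univ, ZMod.card_units, nsmul_eq_mul]
      exact hs.inv

/-- All eigen parts are lines, spanned by the powers. -/
theorem eigen_field [IsAlgClosed K] {χ : (ZMod p)ˣ →* Kˣ} {u : K} (hs : Sep χ u)
    (hp : (toConv (AlgHom.id K A)) ^ p = 1)
    (hχp : (p : K) = 0 → ∀ m : (ZMod p)ˣ, (χ m : K) = ((m : ZMod p).val : K)) :
    (∀ i, Module.finrank K (OortTate.eigenAug K A p χ i) = 1) ∧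
      ∃ f ∈ OortTate.eigenAug K A p χ 1, ∀ t, 1 ≤ t → t < p →
        Submodule.span K {f ^ t} = OortTate.eigenAug K A p χ t := by
  classical
  obtain ⟨f, hf, hne⟩ := exists_eigen_powers hd hs hp hχp
  have hp2 := (Fact.out : p.Prime).two_le
  obtain ⟨hind, -, -⟩ := decomposition (A := A) hs hp
  have hrep : ∀ j : Fin (p - 1), ∃ t, 1 ≤ t ∧ t < p ∧ t % (p - 1) = (j : ℕ) := by
    intro j
    rcases Nat.eq_zero_or_pos (j : ℕ) with h | h
    · exact ⟨p - 1, by omega, by omega, by rw [Nat.mod_self, h]⟩
    · exact ⟨j, h, by omega, Nat.mod_eq_of_lt j.2⟩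
  choose rep hr1 hr2 hr3 using hrep
  have hmem : ∀ j : Fin (p - 1), f ^ rep j ∈ OortTate.eigenAug K A p χ (j : ℕ) := fun j => by
    have := pow_mem_eigenAug hf (rep j) (hr1 j)
    rwa [eigenAug_mod, hr3] at this
  have hli : LinearIndependent K fun j : Fin (p - 1) => f ^ rep j :=
    hind.linearIndependent _ hmem fun j => hne _ (hr2 j)
  have hker : Module.finrank K (LinearMap.ker (Bialgebra.counitAlgHom K A).toLinearMap) = p - 1 := by
    have := (Bialgebra.counitAlgHom K A).toLinearMap.finrank_range_add_finrank_ker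
    rw [LinearMap.range_eq_top.mpr fun c => ⟨algebraMap K A c, by simp⟩, finrank_top,
      Module.finrank_self, hd] at this
    omega
  have hspan : Submodule.span K (Set.range fun j : Fin (p - 1) => f ^ rep j) =
      LinearMap.ker (Bialgebra.counitAlgHom K A).toLinearMap :=
    Submodule.eq_of_le_of_finrank_eq
      (Submodule.span_le.mpr (by rintro _ ⟨j, rfl⟩; exact (mem_eigenAug.mp (hmem j)).1))
      (by rw [finrank_span_eq_card hli, Fintype.card_fin, hker])
  have hline : ∀ j : Fin (p - 1), Submodule.span K {f ^ rep j} = OortTate.eigenAug K A p χ (j : ℕ) := by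
    intro j
    refine le_antisymm (Submodule.span_le.mpr (by simpa using hmem j)) fun y hy => ?_
    obtain ⟨c, hc⟩ := (Submodule.mem_span_range_iff_exists_fun K).mp
      (hspan.symm ▸ (mem_eigenAug.mp hy).1 : y ∈ Submodule.span K (Set.range fun j : Fin (p - 1) => f ^ rep j))
    have h := congr_arg (P K A u χ (j : ℕ)) hc
    rw [P_of_mem hs _ _ hy, if_pos rfl, map_sum, Finset.sum_eq_single j] at h
    · rw [map_smul, P_of_mem hs _ _ (hmem j), if_pos rfl] at h
      exact Submodule.mem_span_singleton.mpr ⟨c j, h⟩
    · intro i _ hij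
      rw [map_smul, P_of_mem hs _ _ (hmem i), if_neg, smul_zero]
      rw [Nat.mod_eq_of_lt i.2, Nat.mod_eq_of_lt j.2]
      exact fun e => hij (Fin.ext e.symm)
    · simp
  have hone : ∀ i, Module.finrank K (OortTate.eigenAug K A p χ i) = 1 := by
    intro i
    rw [eigenAug_mod, show i % (p - 1) = ((⟨i % (p - 1), Nat.mod_lt _ (by omega)⟩ : Fin (p - 1)) : ℕ) from rfl,
      ← hline, finrank_span_singleton (hne _ (hr2 _))]
  refine ⟨hone, f, hf, fun t h1 h2 => ?_⟩
  exact Submodule.eq_of_le_of_finrank_eq (Submodule.span_le.mpr (by simpa using pow_mem_eigenAug hf t h1))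
    (by rw [finrank_span_singleton (hne t h2), hone])

end Groth.Agent.OortTate
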