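import Groth.Agent.OortTate.Cocomm
import Mathlib.RingTheory.LocalRing.Module
import Mathlib.Algebra.Algebra.Operations

/-!
# The eigen parts are invertible modules and generate multiplicatively
-/

open WithConv Coalgebra TensorProduct

universe u
noncomputable section
namespace Groth.Agent.OortTate

variable {p : ℕ} [Fact p.Prime] {R : Type u} [CommRing R] {A : Type u} [CommRing A] [HopfAlgebra R A]
  [Module.Finite R A] [Module.Projective R A] {χ : (ZMod p)ˣ →* Rˣ} {u : R}

omit [Fact p.Prime] in
lemma rank_field {M : Type u} [AddCommGroup M] [Module R M] [Module.Finite R M] [Module.Projective R M]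
    (K : Type u) [Field K] [Algebra R K] :
    Module.finrank K (K ⊗[R] M) =
      Module.rankAtStalk M ((⊥ : PrimeSpectrum K).comap (algebraMap R K)) := by
  rw [← Module.rankAtStalk_baseChange (S := K), Module.rankAtStalk_eq_finrank_of_free]
  rfl

/-- The base field attached to a prime. -/
abbrev geomField (q : PrimeSpectrum R) : Type u := AlgebraicClosure q.asIdeal.ResidueField

omit [Fact p.Prime] in
lemma comap_geomField (q : PrimeSpectrum R) :
    (⊥ : PrimeSpectrum (geomField q)).comap (algebraMap R (geomField q)) = q := by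
  ext x
  simp only [PrimeSpectrum.comap_asIdeal, PrimeSpectrum.asIdeal_bot, Ideal.mem_comap, Submodule.mem_bot,
    IsScalarTower.algebraMap_apply R q.asIdeal.ResidueField (geomField q), map_eq_zero,
    Ideal.algebraMap_residueField_eq_zero]

variable (hs : Sep χ u)
  (hχp : ∀ m : (ZMod p)ˣ, ((χ m : Rˣ) : R) - (((m : ZMod p).val : ℕ) : R) ∈ Ideal.span ({(p : R)} : Set R))
  (hrk : ∀ q : PrimeSpectrum R, Module.rankAtStalk A q = p)
include hrk

lemma finrank_geom (K : Type u) [Field K] [Algebra R K] : Module.finrank K (K ⊗[R] A) = p := by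
  rw [rank_field, hrk]

include hs hχp

lemma field_data (K : Type u) [Field K] [Algebra R K] [IsAlgClosed K] :
    (∀ i, Module.finrank K (OortTate.eigenAug K (K ⊗[R] A) p (chiK K χ) i) = 1) ∧
      ∃ f ∈ OortTate.eigenAug K (K ⊗[R] A) p (chiK K χ) 1, ∀ t, 1 ≤ t → t < p →
        Submodule.span K {f ^ t} = OortTate.eigenAug K (K ⊗[R] A) p (chiK K χ) t := by
  refine eigen_field (finrank_geom hrk K) (sep_baseChange hs K)
    (id_pow_baseChange K (id_pow_eq_one hrk)) fun h0 m => ?_
  obtain ⟨c, hc⟩ := Ideal.mem_span_singleton.mp (hχp m)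
  have := congr(algebraMap R K $hc)
  rw [map_sub, map_natCast, map_mul, map_natCast, h0, zero_mul, sub_eq_zero] at this
  exact this

omit hχp in
lemma range_baseChange (K : Type u) [Field K] [Algebra R K] (i : ℕ) :
    LinearMap.range ((OortTate.eigenAug R A p χ i).subtype.baseChange K) =
      OortTate.eigenAug K (K ⊗[R] A) p (chiK K χ) i := by
  have hp := id_pow_eq_one hrk
  rw [← range_Q (sep_baseChange hs K) (id_pow_baseChange K hp) i, Q_baseChange]
  have h : Q R A u χ i = (OortTate.eigenAug R A p χ i).subtype ∘ₗ (Q R A u χ i).codRestrict _ (Q_mem hp i) :=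
    LinearMap.ext fun a => rfl
  conv_rhs => rw [h, LinearMap.baseChange_comp]
  refine (LinearMap.range_comp_of_range_eq_top _ (LinearMap.range_eq_top.mpr ?_)).symm
  exact LinearMap.baseChange_surjective K fun a => ⟨a, Subtype.ext (by
    show Q R A u χ i (a : A) = a
    rw [Q_of_mem hs i i a.2, if_pos rfl])⟩

theorem rank_eigen (i : ℕ) (q : PrimeSpectrum R) :
    Module.rankAtStalk (↥(OortTate.eigenAug R A p χ i)) q = 1 := by
  have hp := id_pow_eq_one hrk
  have := finite_eigenAug (A := A) hs hp i
  have := projective_eigenAug (A := A) hs hp i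
  rw [← comap_geomField q, ← rank_field]
  have hsplit : Function.Injective ((OortTate.eigenAug R A p χ i).subtype.baseChange (geomField q)) := by
    have h : ((Q R A u χ i).codRestrict _ (Q_mem hp i)) ∘ₗ (OortTate.eigenAug R A p χ i).subtype =
        LinearMap.id := LinearMap.ext fun a => Subtype.ext (by
      show Q R A u χ i (a : A) = a
      rw [Q_of_mem hs i i a.2, if_pos rfl])
    have h' := congr(LinearMap.baseChange (geomField q) $h)
    rw [LinearMap.baseChange_comp, LinearMap.baseChange_id] at h'
    exact Function.LeftInverse.injective (g := ((Q R A u χ i).codRestrict _ (Q_mem hp i)).baseChange _)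
      fun x => LinearMap.congr_fun h' x
  rw [← LinearMap.finrank_range_of_inj hsplit, range_baseChange hs hrk,
    (field_data hs hχp hrk (geomField q)).1]

omit hχp hrk in
lemma pow_le (t : ℕ) (ht : 1 ≤ t) :
    OortTate.eigenAug R A p χ 1 ^ t ≤ OortTate.eigenAug R A p χ t := by
  induction t, ht using Nat.le_induction with
  | base => rw [Submodule.pow_one]
  | succ t ht ih =>
    rw [Submodule.pow_succ, Submodule.mul_le]
    exact fun a ha b hb => mul_mem_eigenAug (ih ha) hb

theorem pow_eq (t : ℕ) (ht : 1 ≤ t) (ht' : t ≤ p - 1) :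
    OortTate.eigenAug R A p χ 1 ^ t = OortTate.eigenAug R A p χ t := by
  have hp := id_pow_eq_one hrk
  have := finite_eigenAug (A := A) hs hp t
  refine le_antisymm (pow_le hs t ht) ?_
  let I := OortTate.eigenAug R A p χ t
  let J : Submodule R I := (OortTate.eigenAug R A p χ 1 ^ t).comap I.subtype
  suffices Subsingleton (I ⧸ J) by
    intro x hx
    exact (Submodule.Quotient.mk_eq_zero J).mp (Subsingleton.elim (Submodule.Quotient.mk ⟨x, hx⟩ : I ⧸ J) 0)
  rw [← Module.support_eq_empty_iff (R := R)]
  refine Set.eq_empty_iff_forall_notMem.mpr fun q hq => ?_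
  rw [Module.mem_support_iff_nontrivial_residueField_tensorProduct] at hq
  let K := geomField q
  have hnt : Nontrivial (K ⊗[R] (I ⧸ J)) :=
    (TensorProduct.AlgebraTensorModule.cancelBaseChange R q.asIdeal.ResidueField q.asIdeal.ResidueField K
      (I ⧸ J)).symm.toEquiv.nontrivial
  obtain ⟨f, hf, hft⟩ := (field_data hs hχp hrk K).2
  -- the image of the power
  have himg : ∀ s, 1 ≤ s → f ^ s ∈ Submodule.span K
      ((fun a : A => (1 : K) ⊗ₜ[R] a) '' (OortTate.eigenAug R A p χ 1 ^ s : Submodule R A)) := by
    intro s hs'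
    have h1 : f ∈ Submodule.span K ((fun a : A => (1 : K) ⊗ₜ[R] a) ''
        (OortTate.eigenAug R A p χ 1 : Submodule R A)) := by
      clear hft
      rw [← range_baseChange hs hrk] at hf
      obtain ⟨w, rfl⟩ := hf
      induction w using TensorProduct.induction_on with
      | zero => simp
      | add x y hx hy => rw [map_add]; exact add_mem hx hy
      | tmul c x =>
        rw [LinearMap.baseChange_tmul, show c ⊗ₜ[R] ((OortTate.eigenAug R A p χ 1).subtype x) =
          c • ((1 : K) ⊗ₜ[R] (x : A)) by simp [TensorProduct.smul_tmul']]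
        exact Submodule.smul_mem _ _ (Submodule.subset_span ⟨x, x.2, rfl⟩)
    induction s, hs' using Nat.le_induction with
    | base => simpa using h1
    | succ s hs' ih =>
      rw [pow_succ]
      have h2 := Submodule.mul_mem_mul ih h1
      rw [Submodule.span_mul_span] at h2
      refine Submodule.span_mono ?_ h2
      rintro _ ⟨_, ⟨a, ha, rfl⟩, _, ⟨b, hb, rfl⟩, rfl⟩
      refine ⟨a * b, ?_, by simp⟩
      simp only [SetLike.mem_coe, Submodule.pow_succ]
      exact Submodule.mul_mem_mul ha hb
  -- so the fibre of the quotient vanishes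
  have hsurj : Function.Surjective (J.subtype.baseChange K) := by
    have hinj : Function.Injective (I.subtype.baseChange K) := by
      have h : ((Q R A u χ t).codRestrict _ (Q_mem hp t)) ∘ₗ I.subtype = LinearMap.id :=
        LinearMap.ext fun a => Subtype.ext (by
          show Q R A u χ t (a : A) = a
          rw [Q_of_mem hs t t a.2, if_pos rfl])
      have h' := congr(LinearMap.baseChange K $h)
      rw [LinearMap.baseChange_comp, LinearMap.baseChange_id] at h'
      exact Function.LeftInverse.injective (g := ((Q R A u χ t).codRestrict _ (Q_mem hp t)).baseChange K)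
        fun x => LinearMap.congr_fun h' x
    intro z
    have hz : I.subtype.baseChange K z ∈ Submodule.span K
        ((fun a : A => (1 : K) ⊗ₜ[R] a) '' (OortTate.eigenAug R A p χ 1 ^ t : Submodule R A)) := by
      have : I.subtype.baseChange K z ∈ Submodule.span K {f ^ t} := by
        rw [hft t ht (by have := (Fact.out : p.Prime).two_le; omega), ← range_baseChange hs hrk]
        exact LinearMap.mem_range_self _ z
      exact Submodule.span_le.mpr (Set.singleton_subset_iff.mpr (himg t ht)) this
    have hle : Submodule.span K ((fun a : A => (1 : K) ⊗ₜ[R] a) ''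
        (OortTate.eigenAug R A p χ 1 ^ t : Submodule R A)) ≤
        LinearMap.range (I.subtype.baseChange K ∘ₗ J.subtype.baseChange K) := by
      rw [Submodule.span_le]
      rintro _ ⟨a, ha, rfl⟩
      exact ⟨(1 : K) ⊗ₜ[R] (⟨⟨a, pow_le hs t ht ha⟩, ha⟩ : J), rfl⟩
    obtain ⟨w, hw⟩ := hle hz
    exact ⟨w, hinj hw⟩
  obtain ⟨a, ha⟩ := exists_ne (0 : K ⊗[R] (I ⧸ J))
  obtain ⟨z, rfl⟩ := LinearMap.baseChange_surjective K J.mkQ_surjective a
  obtain ⟨w, rfl⟩ := hsurj z
  refine ha ?_
  rw [← LinearMap.comp_apply, ← LinearMap.baseChange_comp,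
    show J.mkQ ∘ₗ J.subtype = 0 from LinearMap.ext fun x => (Submodule.Quotient.mk_eq_zero J).mpr x.2]
  simp

end Groth.Agent.OortTate
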