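import Mathlib.RingTheory.Spectrum.Prime.FreeLocus
import Mathlib.RingTheory.LocalProperties.Exactness
import Mathlib.LinearAlgebra.TensorProduct.Tower

/-!
# Finite projective modules of rank one
-/

open TensorProduct

universe u v
namespace Groth.Agent.OortTate

variable {R : Type u} [CommRing R] {L : Type u} [AddCommGroup L] [Module R L] [Module.Finite R L]
  [Module.Projective R L] (hL : ∀ q : PrimeSpectrum R, Module.rankAtStalk L q = 1)
include hL

lemma swap_of_rank_one (f : L →ₗ[R] R) (x a : L) : f x • a = f a • x := by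
  refine Module.eq_of_localization_maximal (fun P _ => Localization.AtPrime P ⊗[R] L)
    (fun P _ => TensorProduct.mk R (Localization.AtPrime P) L 1) _ _ fun P hP => ?_
  let T := Localization.AtPrime P
  have : Module.Free T (T ⊗[R] L) := Module.free_of_flat_of_isLocalRing
  have hr : Module.finrank T (T ⊗[R] L) = 1 :=
    (Module.rankAtStalk_eq_finrank_tensorProduct ⟨P, hP.isPrime⟩).symm.trans (hL _)
  let b := Module.finBasisOfFinrankEq T _ hr
  have hb : ∀ z : T ⊗[R] L, z = b.repr z 0 • b 0 := fun z => by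
    conv_lhs => rw [← b.sum_repr z, Fin.sum_univ_one]
  let fT : T ⊗[R] L →ₗ[T] T := (AlgebraTensorModule.rid R T T).toLinearMap ∘ₗ f.baseChange T
  have hf : ∀ y, fT ((1 : T) ⊗ₜ[R] y) = algebraMap R T (f y) := fun y => by
    simp [fT, Algebra.algebraMap_eq_smul_one]
  show (1 : T) ⊗ₜ[R] (f x • a) = (1 : T) ⊗ₜ[R] (f a • x)
  rw [TensorProduct.tmul_smul, TensorProduct.tmul_smul, ← algebraMap_smul T (f x), ← algebraMap_smul T (f a),
    ← hf, ← hf, hb ((1 : T) ⊗ₜ[R] x), hb ((1 : T) ⊗ₜ[R] a), map_smul, map_smul, smul_smul, smul_smul,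
    smul_eq_mul, smul_eq_mul]
  congr 1
  ring

lemma eq_zero_of_annihilates {r : R} (hr : ∀ x : L, r • x = 0) : r = 0 := by
  refine Module.eq_of_localization_maximal (fun P _ => Localization.AtPrime P)
    (fun P _ => Algebra.linearMap R (Localization.AtPrime P)) _ _ fun P hP => ?_
  let T := Localization.AtPrime P
  have : Module.Free T (T ⊗[R] L) := Module.free_of_flat_of_isLocalRing
  have hk : Module.finrank T (T ⊗[R] L) = 1 :=
    (Module.rankAtStalk_eq_finrank_tensorProduct ⟨P, hP.isPrime⟩).symm.trans (hL _)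
  let b := Module.finBasisOfFinrankEq T _ hk
  have hz : algebraMap R T r • b 0 = 0 := by
    generalize b 0 = z
    induction z using TensorProduct.induction_on with
    | zero => simp
    | add u v hu hv => rw [smul_add, hu, hv, add_zero]
    | tmul c y => rw [algebraMap_smul, ← TensorProduct.tmul_smul, hr, TensorProduct.tmul_zero]
  have := congr(b.repr $hz 0)
  simp only [map_smul, Module.Basis.repr_self, Finsupp.smul_apply, Finsupp.single_eq_same, smul_eq_mul,
    mul_one, map_zero, Finsupp.zero_apply] at this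
  simpa using this

/-- Endomorphisms of a rank one module are scalars. -/
lemma exists_smul_of_rank_one (G : L →ₗ[R] L) : ∃ r : R, ∀ x, G x = r • x := by
  obtain ⟨n, g, f, -, -, hgf⟩ := Module.Finite.exists_comp_eq_id_of_projective R L
  let φ : Fin n → (L →ₗ[R] R) := fun i => LinearMap.proj i ∘ₗ f
  refine ⟨∑ i, φ i (G (g (Pi.single i 1))), fun x => ?_⟩
  have hx : x = ∑ i, φ i x • g (Pi.single i 1) := by
    conv_lhs => rw [← LinearMap.id_apply (R := R) x, ← hgf, LinearMap.comp_apply, pi_eq_sum_univ' (f x)]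
    simp [φ]
  conv_lhs => rw [hx, map_sum]
  rw [Finset.sum_smul]
  exact Finset.sum_congr rfl fun i _ => by rw [map_smul, swap_of_rank_one hL]

end Groth.Agent.OortTate
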