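import Groth.Agent.OortTate.Pres
import Groth.Agent.OortTate.Dual
import Mathlib.RingTheory.HopfAlgebra.MonoidAlgebra
import Groth.Agent.OortTate.RankOne

/-!
# The group algebra of the cyclic group of order `p`
-/

open WithConv Coalgebra TensorProduct

universe u
noncomputable section
namespace Groth.Agent.OortTate

variable {p : ℕ} [Fact p.Prime] {R : Type u} [CommRing R]

variable (R p) in
/-- The group algebra. -/
abbrev GA : Type u := MonoidAlgebra R (Multiplicative (ZMod p))

lemma pw_muT (n : ℕ) : pw R (GA p R) n (OortTate.muT R p) = OortTate.muT R p ^ n := by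
  induction n with
  | zero =>
    simp [pw, SGA3b.powConv, AlgHom.convOne_def, MonoidAlgebra.one_def, (MonoidAlgebra.isGroupLikeElem_of (R := R)
      (A := R) (Multiplicative.ofAdd (1 : ZMod p))).counit_eq_one]
  | succ n ih =>
    simp only [pw, SGA3b.powConv, pow_succ, AlgHom.convMul_apply]
    simp only [pw, SGA3b.powConv] at ih
    rw [(MonoidAlgebra.isGroupLikeElem_of (R := R) (A := R)
      (Multiplicative.ofAdd (1 : ZMod p))).comul_eq_tmul_self, Algebra.TensorProduct.lift_tmul, ih,
      AlgHom.id_apply]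

lemma muT_pow_val (k : ZMod p) :
    OortTate.muT R p ^ k.val = MonoidAlgebra.of R (Multiplicative (ZMod p)) (Multiplicative.ofAdd k) := by
  rw [← map_pow, ← ofAdd_nsmul, nsmul_one, ZMod.natCast_zmod_val]

lemma rank_GA (q : PrimeSpectrum R) : Module.rankAtStalk (GA p R) q = p := by
  have : Nontrivial R := ⟨⟨0, 1, fun h => q.2.ne_top ((Ideal.eq_top_iff_one _).mpr (h ▸ zero_mem _))⟩⟩
  rw [Module.rankAtStalk_eq_finrank_of_free, Pi.natCast_apply, Nat.cast_id,
    Module.finrank_eq_card_basis (MonoidAlgebra.basis (Multiplicative (ZMod p)) R)]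
  simp

variable {χ : (ZMod p)ˣ →* Rˣ} {u : R} (hs : Sep χ u)

lemma ygen_eq (i : ℕ) : OortTate.ygen R p u χ i = Q R (GA p R) u χ i (OortTate.muT R p) := by
  simp [Q, P, (MonoidAlgebra.isGroupLikeElem_of (R := R) (A := R)
    (Multiplicative.ofAdd (1 : ZMod p))).counit_eq_one, MonoidAlgebra.one_def]

include hs in
lemma eigen_GA (i : ℕ) :
    OortTate.eigenAug R (GA p R) p χ i = Submodule.span R {OortTate.ygen R p u χ i} := by
  have hp := id_pow_eq_one (R := R) (A := GA p R) (rank_GA (R := R) (p := p))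
  refine le_antisymm ?_ (by
    rw [Submodule.span_le, Set.singleton_subset_iff, ygen_eq]; exact Q_mem hp i _)
  rw [← range_Q hs hp i]
  rintro _ ⟨a, rfl⟩
  induction a using MonoidAlgebra.induction_on with
  | add x y hx hy => rw [map_add]; exact add_mem hx hy
  | smul c x hx => rw [map_smul]; exact Submodule.smul_mem _ c hx
  | of g =>
    obtain ⟨k, rfl⟩ := Multiplicative.ofAdd.surjective g
    by_cases hk : k = 0
    · subst hk
      rw [ofAdd_zero, map_one, show Q R (GA p R) u χ i 1 = 0 by simp [Q, MonoidAlgebra.one_def]]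
      exact zero_mem _
    · rw [← muT_pow_val, ← pw_muT, show k = ((Units.mk0 k hk : (ZMod p)ˣ) : ZMod p) from rfl,
        Q_pw hp, ← ygen_eq]
      exact Submodule.smul_mem _ _ (Submodule.mem_span_singleton_self _)

variable (hχp : ∀ m : (ZMod p)ˣ, ((χ m : Rˣ) : R) - (((m : ZMod p).val : ℕ) : R) ∈ Ideal.span ({(p : R)} : Set R))

include hs hχp in
lemma smul_ygen_eq_zero (i : ℕ) {c : R} (h : c • OortTate.ygen R p u χ i = 0) : c = 0 := by
  have hp := id_pow_eq_one (R := R) (A := GA p R) (rank_GA (R := R) (p := p))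
  have := finite_eigenAug (A := GA p R) hs hp i
  have := projective_eigenAug (A := GA p R) hs hp i
  have hr : ∀ q : PrimeSpectrum R, Module.rankAtStalk (↥(OortTate.eigenAug R (GA p R) p χ i)) q = 1 :=
    fun q => rank_eigen hs hχp (rank_GA (R := R) (p := p)) i q
  refine eq_zero_of_annihilates (L := ↥(OortTate.eigenAug R (GA p R) p χ i)) hr ?_
  intro x
  have hx : (x : GA p R) ∈ Submodule.span R {OortTate.ygen R p u χ i} := eigen_GA hs i ▸ x.2
  obtain ⟨r, hr⟩ := Submodule.mem_span_singleton.mp hx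
  exact Subtype.ext (by rw [Submodule.coe_smul, ← hr, smul_comm, h, smul_zero, Submodule.coe_zero])

include hs hχp in
theorem ygen_main : LinearIndependent R (fun i : Fin (p - 1) => OortTate.ygen R p u χ (i : ℕ)) ∧
    Submodule.span R (Set.range (fun i : Fin (p - 1) => OortTate.ygen R p u χ (i : ℕ))) =
      LinearMap.ker (Bialgebra.counitAlgHom R (GA p R)).toLinearMap ∧
    Algebra.adjoin R ({OortTate.ygen R p u χ 1} : Set (GA p R)) = ⊤ ∧
    ∃! w : R, OortTate.ygen R p u χ 1 ^ p = w • OortTate.ygen R p u χ 1 := by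
  classical
  have hp := id_pow_eq_one (R := R) (A := GA p R) (rank_GA (R := R) (p := p))
  have hmem : ∀ i, OortTate.ygen R p u χ i ∈ OortTate.eigenAug R (GA p R) p χ i := fun i => by
    rw [ygen_eq]; exact Q_mem hp i _
  refine ⟨Fintype.linearIndependent_iff.mpr fun c hc j => ?_, le_antisymm ?_ fun a ha => ?_, ?_, ?_⟩
  · refine smul_ygen_eq_zero hs hχp j ?_
    have h := congr_arg (P R (GA p R) u χ (j : ℕ)) hc
    rw [map_sum, map_zero, Finset.sum_eq_single j, map_smul, P_of_mem hs _ _ (hmem _), if_pos rfl] at h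
    · exact h
    · intro i _ hij
      rw [map_smul, P_of_mem hs _ _ (hmem _), if_neg, smul_zero]
      rw [Nat.mod_eq_of_lt i.2, Nat.mod_eq_of_lt j.2]
      exact fun e => hij (Fin.ext e.symm)
    · simp
  · rw [Submodule.span_le]
    rintro _ ⟨i, rfl⟩
    exact (mem_eigenAug.mp (hmem _)).1
  · have h0 : counit (R := R) a = 0 := ha
    have h := sum_Q hs a
    rw [h0, map_zero, sub_zero] at h
    rw [← h]
    refine Submodule.sum_mem _ fun i _ => ?_
    have := Q_mem (u := u) (χ := χ) hp (i : ℕ) a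
    rw [eigen_GA hs] at this
    exact Submodule.span_mono (Set.singleton_subset_iff.mpr (Set.mem_range_self i)) this
  · rw [eq_top_iff, ← (AlgHom.range_eq_top _).mpr (liftI_surjective hs hχp (rank_GA (R := R) (p := p))),
      TensorAlgebra.range_lift, Algebra.adjoin_le_iff]
    rintro _ ⟨x, rfl⟩
    have hx : (x : GA p R) ∈ Submodule.span R {OortTate.ygen R p u χ 1} := eigen_GA hs 1 ▸ x.2
    exact Algebra.span_le_adjoin R _ hx
  · have h := pow_mem_eigenAug (hmem 1) p (Fact.out : p.Prime).one_le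
    have hp2 := (Fact.out : p.Prime).two_le
    rw [eigenAug_mod, show p % (p - 1) = (1 + (p - 1)) % (p - 1) by congr 1; omega, Nat.add_mod_right,
      ← eigenAug_mod, eigen_GA hs] at h
    obtain ⟨w, hw⟩ := Submodule.mem_span_singleton.mp h
    refine ⟨w, hw.symm, fun w' hw' => sub_eq_zero.mp (smul_ygen_eq_zero hs hχp 1 ?_)⟩
    rw [sub_smul, ← hw', hw, sub_self]

end Groth.Agent.OortTate
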