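import Groth.Agent.OortTate.GroupAlg

/-!
# The Cartier pairing on the eigen parts
-/

open WithConv Coalgebra TensorProduct

universe u
noncomputable section
namespace Groth.Agent.OortTate

variable {p : ℕ} [Fact p.Prime] {R : Type u} [CommRing R] {A : Type u} [CommRing A] [HopfAlgebra R A]
  [Coalgebra.IsCocomm R A] [Module.Finite R A] [Module.Projective R A]

variable (R A) in
/-- The coordinate ring as scalars of the endomorphisms. -/
def endScalar : A →ₐ[R] WithConv (A →ₗ[R] A) where
  toFun a := a • (1 : WithConv (A →ₗ[R] A))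
  map_one' := one_smul _ _
  map_mul' a b := by rw [smul_mul_smul_comm, one_mul]
  map_zero' := zero_smul _ _
  map_add' a b := add_smul _ _ _
  commutes' r := WithConv.ext (LinearMap.ext fun x => by
    simp [Algebra.algebraMap_eq_smul_one, smul_smul])

variable (R A) in
/-- Linear forms as endomorphisms. -/
def endForm : CartDual.D R A →ₐ[R] WithConv (A →ₗ[R] A) :=
  { postConv (A := A) (Algebra.ofId R A) with
    commutes' := fun r => WithConv.ext (LinearMap.ext fun a => by
      simp [postConv, Algebra.algebraMap_eq_smul_one, smul_smul]) }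

variable (R A) in
/-- The canonical algebra map to the convolution algebra of endomorphisms. -/
def Ψ : A ⊗[R] CartDual.D R A →ₐ[R] WithConv (A →ₗ[R] A) :=
  Algebra.TensorProduct.lift (endScalar R A) (endForm R A) fun _ _ => Commute.all _ _

omit [Module.Finite R A] [Module.Projective R A] in
lemma endScalar_mul (a : A) (F : WithConv (A →ₗ[R] A)) (x : A) :
    (endScalar R A a * F).ofConv x = a * F.ofConv x := by
  show ((a • (1 : WithConv (A →ₗ[R] A))) * F).ofConv x = _
  rw [smul_mul_assoc, one_mul, ofConv_smul, LinearMap.smul_apply, smul_eq_mul]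

omit [Fact p.Prime] [Module.Finite R A] [Module.Projective R A] in
lemma Ψ_tmul (a : A) (f : CartDual.D R A) (x : A) :
    (Ψ R A (a ⊗ₜ f)).ofConv x = f.ofConv x • a := by
  rw [Ψ, Algebra.TensorProduct.lift_tmul, endScalar_mul, Algebra.smul_def, mul_comm]
  rfl

lemma Ψ_eq_rid (z : A ⊗[R] CartDual.D R A) (x : A) :
    (Ψ R A z).ofConv x = TensorProduct.rid R A
      (LinearMap.lTensor A ((Module.Dual.eval R A x) ∘ₗ (CartDual.toDual R A).toLinearMap) z) := by
  induction z using TensorProduct.induction_on with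
  | zero => simp
  | add y z hy hz => simp only [map_add, ofConv_add, LinearMap.add_apply, hy, hz]
  | tmul a f => rw [Ψ_tmul]; simp

lemma Ψ_injective : Function.Injective (Ψ R A) := by
  obtain ⟨n, g, f, -, -, hgf⟩ := Module.Finite.exists_comp_eq_id_of_projective R A
  let φ : Fin n → CartDual.D R A := fun i => toConv (LinearMap.proj i ∘ₗ f)
  have hinv : ∀ z : A ⊗[R] CartDual.D R A,
      ∑ i, (Ψ R A z).ofConv (g (Pi.single i 1)) ⊗ₜ[R] φ i = z := by
    intro z
    induction z using TensorProduct.induction_on with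
    | zero => simp
    | add y z hy hz =>
      simp only [map_add, ofConv_add, LinearMap.add_apply, TensorProduct.add_tmul, Finset.sum_add_distrib,
        hy, hz]
    | tmul a h =>
      simp only [Ψ_tmul, TensorProduct.smul_tmul, ← TensorProduct.tmul_sum]
      congr 1
      refine WithConv.ext (LinearMap.ext fun y => ?_)
      conv_rhs => rw [← LinearMap.id_apply (R := R) y, ← hgf, LinearMap.comp_apply, pi_eq_sum_univ' (f y)]
      simp [φ, ofConv_sum, mul_comm]
  intro z w h
  rw [← hinv z, ← hinv w, h]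

variable {χ : (ZMod p)ˣ →* Rˣ} {u : R} (hs : Sep χ u)
  (hχp : ∀ m : (ZMod p)ˣ, ((χ m : Rˣ) : R) - (((m : ZMod p).val : ℕ) : R) ∈ Ideal.span ({(p : R)} : Set R))
  (hrk : ∀ q : PrimeSpectrum R, Module.rankAtStalk A q = p)

include hs hrk in
omit hs in
lemma dual_eigen_Q (i : ℕ) {h : CartDual.D R A} (hh : h ∈ OortTate.eigenAug R (CartDual.D R A) p χ i)
    (hs : Sep χ u) (a : A) : h.ofConv a = h.ofConv (Q R A u χ i a) := by
  have h0 : P R (CartDual.D R A) u χ i h = h := by rw [P_of_mem hs i i hh, if_pos rfl]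
  have h1 : h.ofConv 1 = 0 := by
    have := (mem_eigenAug.mp hh).1
    rwa [CartDual.coalgebra_counit_apply] at this
  have h2 : ∀ b, h.ofConv (P R A u χ i b) = h.ofConv b := fun b => by rw [← dual_proj, h0]
  rw [show Q R A u χ i a = P R A u χ i (a - algebraMap R A (counit a)) from rfl, h2, map_sub,
    Algebra.algebraMap_eq_smul_one, map_smul, h1, smul_zero, sub_zero]

include hs hχp hrk

/-- A pure eigen tensor is a multiple of the projector. -/
lemma Ψ_eigen (i : ℕ) {a : A} (ha : a ∈ OortTate.eigenAug R A p χ i) {f : CartDual.D R A}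
    (hf : f ∈ OortTate.eigenAug R (CartDual.D R A) p χ i) :
    Ψ R A (a ⊗ₜ f) = f.ofConv a • toConv (Q R A u χ i) := by
  have hp := id_pow_eq_one hrk
  have := finite_eigenAug (A := A) hs hp i
  have := projective_eigenAug (A := A) hs hp i
  refine WithConv.ext (LinearMap.ext fun x => ?_)
  rw [Ψ_tmul, ofConv_smul, ofConv_toConv, LinearMap.smul_apply, dual_eigen_Q hrk i hf hs x]
  exact congr_arg Subtype.val (swap_of_rank_one (fun q => rank_eigen hs hχp hrk i q)
    (f.ofConv ∘ₗ (OortTate.eigenAug R A p χ i).subtype) ⟨_, Q_mem hp i x⟩ ⟨a, ha⟩)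

lemma smul_Q_eq_zero (i : ℕ) {r : R} (h : r • toConv (Q R A u χ i) = 0) : r = 0 := by
  have hp := id_pow_eq_one hrk
  have := finite_eigenAug (A := A) hs hp i
  have := projective_eigenAug (A := A) hs hp i
  refine eq_zero_of_annihilates (L := ↥(OortTate.eigenAug R A p χ i)) (fun q => rank_eigen hs hχp hrk i q) ?_
  intro x
  have h' := congr(($h).ofConv (x : A))
  rw [ofConv_smul, ofConv_toConv, LinearMap.smul_apply, Q_of_mem hs i i x.2, if_pos rfl] at h'
  exact Subtype.ext h'

omit hs hχp hrk in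
/-- An algebra map sending the generator to the identity sends the averaged generators to the projectors. -/
lemma alg_ygen (F : GA p R →ₐ[R] WithConv (A →ₗ[R] A)) (hF : F (OortTate.muT R p) = toConv LinearMap.id)
    (i : ℕ) : F (OortTate.ygen R p u χ i) = toConv (Q R A u χ i) := by
  have hy : OortTate.ygen R p u χ i = u • ∑ m : (ZMod p)ˣ,
      (χ m⁻¹ : R) ^ i • (OortTate.muT R p ^ (m : ZMod p).val - 1) := by
    show P R (GA p R) u χ i (OortTate.muT R p - 1) = _
    rw [P_apply]
    refine congrArg (u • ·) (Finset.sum_congr rfl fun m _ => ?_)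
    rw [map_sub, map_one, pw_muT]
  have hkey : ∀ n : ℕ, F (OortTate.muT R p ^ n - 1) = toConv (pw R A n).toLinearMap - 1 := by
    intro n
    rw [map_sub, map_pow, map_one, hF]
    exact congrArg (· - (1 : WithConv (A →ₗ[R] A)))
      (AlgHom.toLinearMap_convPow (toConv (AlgHom.id R A)) n).symm
  rw [hy, map_smul, map_sum, Finset.sum_congr rfl fun m _ => by rw [map_smul, hkey]]
  refine WithConv.ext (LinearMap.ext fun x => ?_)
  simp only [ofConv_smul, ofConv_sum, LinearMap.smul_apply, LinearMap.sum_apply, ofConv_sub,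
    LinearMap.sub_apply, ofConv_toConv]
  rw [show Q R A u χ i x = P R A u χ i (x - algebraMap R A (counit x)) from rfl, P_apply]
  refine congrArg (u • ·) (Finset.sum_congr rfl fun m _ => ?_)
  simp

variable {δ : A ⊗[R] CartDual.D R A}
  (hδ : ∀ a : A, TensorProduct.rid R A
      (LinearMap.lTensor A ((Module.Dual.eval R A a) ∘ₗ (CartDual.toDual R A).toLinearMap) δ) = a)
  {ϕ : MonoidAlgebra R (Multiplicative (ZMod p)) →ₐ[R] A ⊗[R] CartDual.D R A}
  (hϕ : ϕ (OortTate.muT R p) = δ)
include hδ hϕ

omit hχp in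
/-- The pairing sends the averaged generators to the projectors. -/
lemma Ψ_ygen (i : ℕ) : Ψ R A (ϕ (OortTate.ygen R p u χ i)) = toConv (Q R A u χ i) := by
  refine alg_ygen ((Ψ R A).comp ϕ) ?_ i
  rw [AlgHom.comp_apply, hϕ]
  exact WithConv.ext (LinearMap.ext fun x => by rw [Ψ_eq_rid, hδ]; rfl)

theorem pairing_span :
    Submodule.span R {ϕ (OortTate.ygen R p u χ 1)} =
        LinearMap.range (TensorProduct.map (OortTate.eigenAug R A p χ 1).subtype
          (OortTate.eigenAug R (CartDual.D R A) p χ 1).subtype) ∧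
      ∀ r : R, r • ϕ (OortTate.ygen R p u χ 1) = 0 → r = 0 := by
  have hp := id_pow_eq_one hrk
  have := finite_eigenAug (A := A) hs hp 1
  have := projective_eigenAug (A := A) hs hp 1
  refine ⟨le_antisymm ?_ ?_, fun r hr => ?_⟩
  · rw [Submodule.span_le, Set.singleton_subset_iff]
    obtain ⟨n, g, f, -, -, hgf⟩ := Module.Finite.exists_comp_eq_id_of_projective R
      (OortTate.eigenAug R A p χ 1)
    choose F hF using fun i : Fin n => (dual_eigen_bijective hs hp 1).2 (LinearMap.proj i ∘ₗ f)
    refine ⟨∑ i, g (Pi.single i 1) ⊗ₜ[R] F i, Ψ_injective (WithConv.ext (LinearMap.ext fun x => ?_))⟩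
    rw [Ψ_ygen hs hrk hδ hϕ, map_sum, map_sum, ofConv_sum, LinearMap.sum_apply, ofConv_toConv]
    simp only [TensorProduct.map_tmul, Submodule.coe_subtype, Ψ_tmul]
    simp only [dual_eigen_Q hrk 1 (F _).2 hs x]
    have h := congr(($hgf (⟨Q R A u χ 1 x, Q_mem hp 1 x⟩ : OortTate.eigenAug R A p χ 1) : A))
    rw [LinearMap.comp_apply, LinearMap.id_apply, pi_eq_sum_univ' (f _), map_sum] at h
    simp only [map_smul, Submodule.coe_sum, Submodule.coe_smul] at h
    refine Eq.trans (Finset.sum_congr rfl fun i _ => ?_) h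
    congr 1
    exact LinearMap.congr_fun (hF i) ⟨Q R A u χ 1 x, Q_mem hp 1 x⟩
  · rintro _ ⟨z, rfl⟩
    induction z using TensorProduct.induction_on with
    | zero => simp
    | add y z hy hz => rw [map_add]; exact add_mem hy hz
    | tmul a f =>
      refine Submodule.mem_span_singleton.mpr ⟨(f : CartDual.D R A).ofConv (a : A), Ψ_injective ?_⟩
      rw [map_smul, Ψ_ygen hs hrk hδ hϕ, TensorProduct.map_tmul]
      exact (Ψ_eigen hs hχp hrk 1 a.2 f.2).symm
  · refine smul_Q_eq_zero hs hχp hrk 1 ?_
    rw [← Ψ_ygen hs hrk hδ hϕ, ← map_smul, hr, map_zero]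

end Groth.Agent.OortTate
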