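import Groth.Agent.OortTate.Global
import Mathlib.LinearAlgebra.TensorAlgebra.Basic
import Mathlib.Algebra.Group.Pointwise.Set.ListOfFn
import Mathlib.RingTheory.Finiteness.Bilinear
import Mathlib.RingTheory.Ideal.Operations

/-!
# The presentation of the coordinate ring by the tensor algebra of the first eigen part
-/

open WithConv Coalgebra TensorProduct

universe u
noncomputable section
namespace Groth.Agent.OortTate

variable {R : Type u} [CommRing R]

/-- A finite module with vanishing geometric fibres is zero. -/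
lemma subsingleton_of_fibres {N : Type u} [AddCommGroup N] [Module R N] [Module.Finite R N]
    (h : ∀ q : PrimeSpectrum R, Subsingleton (geomField q ⊗[R] N)) : Subsingleton N := by
  rw [← Module.support_eq_empty_iff (R := R)]
  refine Set.eq_empty_iff_forall_notMem.mpr fun q hq => ?_
  rw [Module.mem_support_iff_nontrivial_residueField_tensorProduct] at hq
  have : Nontrivial (geomField q ⊗[R] N) :=
    (TensorProduct.AlgebraTensorModule.cancelBaseChange R q.asIdeal.ResidueField q.asIdeal.ResidueField
      (geomField q) N).symm.toEquiv.nontrivial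
  exact false_of_nontrivial_of_subsingleton (geomField q ⊗[R] N)

variable {p : ℕ} [Fact p.Prime] {A : Type u} [CommRing A] [HopfAlgebra R A]
  [Module.Finite R A] [Module.Projective R A] {χ : (ZMod p)ˣ →* Rˣ} {u : R} (hs : Sep χ u)
  (hχp : ∀ m : (ZMod p)ˣ, ((χ m : Rˣ) : R) - (((m : ZMod p).val : ℕ) : R) ∈ Ideal.span ({(p : R)} : Set R))
  (hrk : ∀ q : PrimeSpectrum R, Module.rankAtStalk A q = p)

variable (R p A χ) in
/-- The defining relations. -/
def relIdeal : Ideal (TensorAlgebra R (OortTate.eigenAug R A p χ 1)) :=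
  Ideal.span {x | ∃ (f : Fin p → OortTate.eigenAug R A p χ 1) (g : OortTate.eigenAug R A p χ 1),
    (g : A) = ∏ i, (f i : A) ∧
    x = (List.ofFn fun i => TensorAlgebra.ι R (f i)).prod - TensorAlgebra.ι R g}

variable (R p A χ) in
/-- The evaluation. -/
abbrev liftI : TensorAlgebra R (OortTate.eigenAug R A p χ 1) →ₐ[R] A :=
  TensorAlgebra.lift R (OortTate.eigenAug R A p χ 1).subtype

omit [Module.Finite R A] [Module.Projective R A] in
lemma relIdeal_le : relIdeal R p A χ ≤ RingHom.ker (liftI R p A χ) := by
  rw [relIdeal, Ideal.span_le]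
  rintro _ ⟨f, g, hg, rfl⟩
  rw [SetLike.mem_coe, RingHom.mem_ker, map_sub, map_list_prod, List.map_ofFn, List.prod_ofFn]
  simp [Function.comp_def, hg]

include hs hχp hrk in
lemma exists_prod_mem (f : Fin p → OortTate.eigenAug R A p χ 1) :
    ∃ g : OortTate.eigenAug R A p χ 1, (g : A) = ∏ i, (f i : A) := by
  refine ⟨⟨∏ i, (f i : A), ?_⟩, rfl⟩
  have hp2 := (Fact.out : p.Prime).two_le
  have h : ∏ i, (f i : A) ∈ OortTate.eigenAug R A p χ 1 ^ p := by
    rw [← List.prod_ofFn, Submodule.pow_eq_span_pow_set]
    exact Submodule.subset_span (Set.mem_pow.mpr ⟨fun i => ⟨(f i : A), (f i).2⟩, rfl⟩)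
  have h2 := pow_le hs p (by omega) h
  rwa [eigenAug_mod, show p % (p - 1) = (1 + (p - 1)) % (p - 1) by congr 1; omega, Nat.add_mod_right,
    ← eigenAug_mod] at h2

include hs hχp hrk in
theorem liftI_surjective : Function.Surjective (liftI R p A χ) := by
  have hp := id_pow_eq_one hrk
  rw [← AlgHom.range_eq_top, TensorAlgebra.range_lift, eq_top_iff]
  intro a _
  have hsum := sum_Q (A := A) hs a
  rw [show a = (∑ i : Fin (p - 1), Q R A u χ (i : ℕ) a) + algebraMap R A (counit a) by
    rw [hsum, sub_add_cancel]]
  refine add_mem (Subalgebra.sum_mem _ fun i _ => ?_) (Subalgebra.algebraMap_mem _ _)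
  obtain ⟨t, h1, h2, h3⟩ : ∃ t, 1 ≤ t ∧ t ≤ p - 1 ∧ t % (p - 1) = (i : ℕ) := by
    rcases Nat.eq_zero_or_pos (i : ℕ) with h | h
    · exact ⟨p - 1, by have := i.2; omega, le_rfl, by rw [Nat.mod_self, h]⟩
    · exact ⟨i, h, i.2.le, Nat.mod_eq_of_lt i.2⟩
  have hi : Q R A u χ (i : ℕ) a ∈ OortTate.eigenAug R A p χ 1 ^ t := by
    rw [pow_eq hs hχp hrk t h1 h2, eigenAug_mod, h3]
    exact Q_mem hp _ a
  have hle : OortTate.eigenAug R A p χ 1 ^ t ≤
      Subalgebra.toSubmodule (Algebra.adjoin R (Set.range (OortTate.eigenAug R A p χ 1).subtype)) := by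
    rw [Submodule.pow_eq_span_pow_set, Submodule.span_le]
    intro z hz
    obtain ⟨f, rfl⟩ := Set.mem_pow.mp hz
    refine Subalgebra.list_prod_mem _ fun w hw => ?_
    obtain ⟨j, rfl⟩ := List.mem_ofFn.mp hw
    exact Algebra.subset_adjoin ⟨⟨_, (f j).2⟩, rfl⟩
  exact hle hi

variable (R p A χ) in
/-- The quotient by the relations. -/
abbrev PresQuot : Type u :=
  TensorAlgebra R (OortTate.eigenAug R A p χ 1) ⧸ (relIdeal R p A χ).restrictScalars R

local notation "L" => OortTate.eigenAug R A p χ 1

variable (R p A χ) in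
/-- The class map. -/
abbrev mkP : TensorAlgebra R (OortTate.eigenAug R A p χ 1) →ₗ[R] PresQuot R p A χ :=
  Submodule.mkQ _

omit [Module.Finite R A] [Module.Projective R A] in
/-- A submodule closed under the generators is everything. -/
lemma presQuot_induction {W : Type*} [AddCommMonoid W] [Module R W] (φ : TensorAlgebra R L →ₗ[R] W)
    (S : Submodule R W) (h1 : φ 1 ∈ S) (hmul : ∀ (x : L) w, φ w ∈ S → φ (TensorAlgebra.ι R x * w) ∈ S)
    (w : TensorAlgebra R L) : φ w ∈ S := by
  have hw : w ∈ Subalgebra.toSubmodule (Algebra.adjoin R (Set.range (TensorAlgebra.ι R : L → _))) := by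
    rw [TensorAlgebra.adjoin_range_ι]; simp
  rw [Algebra.adjoin_eq_span] at hw
  induction hw using Submodule.span_induction with
  | zero => simp
  | add x y _ _ hx hy => rw [map_add]; exact add_mem hx hy
  | smul c x _ hx => rw [map_smul]; exact S.smul_mem c hx
  | mem x hx =>
    obtain ⟨l, hl, rfl⟩ := Submonoid.exists_list_of_mem_closure hx
    clear hx
    induction l with
    | nil => simpa using h1
    | cons a l ih =>
      obtain ⟨y, rfl⟩ := hl a (by simp)
      rw [List.prod_cons]
      exact hmul y _ (ih fun b hb => hl b (by simp [hb]))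

omit [Module.Finite R A] [Module.Projective R A] in
lemma mk_mul_congr (t : TensorAlgebra R L) {v w : TensorAlgebra R L} (h : mkP R p A χ v = mkP R p A χ w) :
    mkP R p A χ (t * v) = mkP R p A χ (t * w) := by
  rw [Submodule.mkQ_apply, Submodule.mkQ_apply, Submodule.Quotient.eq, Submodule.restrictScalars_mem] at h ⊢
  rw [← mul_sub]
  exact Ideal.mul_mem_left _ t h

omit [Module.Finite R A] [Module.Projective R A] in
lemma mk_rel {f : Fin p → L} {g : L} (hg : (g : A) = ∏ i, (f i : A)) :
    mkP R p A χ (List.ofFn fun i => TensorAlgebra.ι R (f i)).prod = mkP R p A χ (TensorAlgebra.ι R g) := by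
  rw [Submodule.mkQ_apply, Submodule.mkQ_apply, Submodule.Quotient.eq, Submodule.restrictScalars_mem]
  exact Ideal.subset_span ⟨f, g, hg, rfl⟩

include hs hχp hrk in
theorem presQuot_finite : Module.Finite R (PresQuot R p A χ) := by
  have hp := id_pow_eq_one hrk
  have := finite_eigenAug (A := A) hs hp 1
  let E : Submodule R (TensorAlgebra R L) := LinearMap.range (TensorAlgebra.ι R)
  let S : Submodule R (PresQuot R p A χ) := ⨆ j : Fin p, (E ^ (j : ℕ)).map (mkP R p A χ)
  have hfg : S.FG := by
    refine Submodule.fg_iSup _ fun j => Submodule.FG.map _ ?_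
    refine Submodule.FG.pow ?_ _
    rw [show E = (⊤ : Submodule R L).map (TensorAlgebra.ι R (M := L)) from (Submodule.map_top _).symm]
    exact Module.Finite.fg_top.map _
  refine ⟨?_⟩
  suffices S = ⊤ from this ▸ hfg
  rw [eq_top_iff]
  rintro z -
  obtain ⟨z, rfl⟩ := Submodule.mkQ_surjective _ z
  refine presQuot_induction (mkP R p A χ) S ?_ (fun x w hw => ?_) z
  · exact Submodule.mem_iSup_of_mem ⟨0, (Fact.out : p.Prime).pos⟩
      (Submodule.mem_map_of_mem (by simpa using Submodule.one_le.mp le_rfl))
  · revert hw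
    generalize hv : mkP R p A χ w = v
    intro hw
    suffices ∀ v ∈ S, ∀ w, mkP R p A χ w = v → mkP R p A χ (TensorAlgebra.ι R x * w) ∈ S from this v hw w hv
    intro v hv
    induction hv using Submodule.iSup_induction' with
    | zero => intro w hw; rw [mk_mul_congr _ (hw.trans (map_zero (mkP R p A χ)).symm), mul_zero, map_zero]; exact zero_mem _
    | add v v' _ _ ih ih' =>
      intro w hw
      obtain ⟨a, rfl⟩ := Submodule.mkQ_surjective _ v
      obtain ⟨b, rfl⟩ := Submodule.mkQ_surjective _ v'
      rw [mk_mul_congr _ (hw.trans (map_add (mkP R p A χ) a b).symm), mul_add, map_add]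
      exact add_mem (ih a rfl) (ih' b rfl)
    | mem j v hv =>
      intro w hw
      obtain ⟨a, ha, rfl⟩ := hv
      rw [mk_mul_congr _ hw]
      by_cases hj : (j : ℕ) + 1 < p
      · refine Submodule.mem_iSup_of_mem ⟨(j : ℕ) + 1, hj⟩ (Submodule.mem_map_of_mem ?_)
        rw [_root_.pow_succ']
        exact Submodule.mul_mem_mul (LinearMap.mem_range_self _ x) ha
      · have hjp : (j : ℕ) + 1 = p := by omega
        have hmem' : TensorAlgebra.ι R x * a ∈ E ^ ((j : ℕ) + 1) := by
          rw [_root_.pow_succ']
          exact Submodule.mul_mem_mul (LinearMap.mem_range_self _ x) ha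
        have hmem : TensorAlgebra.ι R x * a ∈ E ^ p := (congrArg (fun n => E ^ n) hjp).le hmem'
        generalize TensorAlgebra.ι R x * a = b at hmem
        rw [Submodule.pow_eq_span_pow_set] at hmem
        induction hmem using Submodule.span_induction with
        | zero => simp
        | add c d _ _ hc hd => rw [map_add]; exact add_mem hc hd
        | smul r c _ hc => rw [map_smul]; exact Submodule.smul_mem _ r hc
        | mem c hc =>
          obtain ⟨F, rfl⟩ := Set.mem_pow.mp hc
          choose f hf using fun i => (F i).2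
          obtain ⟨g, hg⟩ := exists_prod_mem hs hχp hrk f
          rw [show (List.ofFn fun i => ((F i : TensorAlgebra R L))) =
            List.ofFn fun i => TensorAlgebra.ι R (f i) from congrArg List.ofFn (funext fun i => (hf i).symm),
            mk_rel hg]
          exact Submodule.mem_iSup_of_mem ⟨1, (Fact.out : p.Prime).one_lt⟩
            (Submodule.mem_map_of_mem (by simp [E]))

include hs hχp hrk in
theorem finrank_fibre_le (q : PrimeSpectrum R) :
    Module.finrank (geomField q) (geomField q ⊗[R] PresQuot R p A χ) ≤ p := by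
  have hp := id_pow_eq_one hrk
  have := finite_eigenAug (A := A) hs hp 1
  have := projective_eigenAug (A := A) hs hp 1
  set K := geomField q
  have hL : Module.finrank K (K ⊗[R] L) = 1 := by
    rw [rank_field, rank_eigen hs hχp hrk]
  have : Nontrivial (K ⊗[R] L) := Module.nontrivial_of_finrank_eq_succ hL
  obtain ⟨x₀, hx₀⟩ : ∃ x₀ : L, (1 : K) ⊗ₜ[R] x₀ ≠ 0 := by
    by_contra! h
    obtain ⟨z, hz⟩ := exists_ne (0 : K ⊗[R] L)
    apply hz
    clear hz
    induction z using TensorProduct.induction_on with
    | zero => rfl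
    | add a b ha hb => rw [ha, hb, add_zero]
    | tmul c x =>
      rw [show c ⊗ₜ[R] x = c • ((1 : K) ⊗ₜ[R] x) by simp [TensorProduct.smul_tmul'], h, smul_zero]
  let φ : TensorAlgebra R L →ₗ[R] K ⊗[R] PresQuot R p A χ :=
    TensorProduct.mk R K _ 1 ∘ₗ mkP R p A χ
  let v : Fin p → K ⊗[R] PresQuot R p A χ := fun j =>
    φ (TensorAlgebra.ι R x₀ ^ (j : ℕ))
  have hscale : ∀ x : L, ∃ c : K, ∀ w, φ (TensorAlgebra.ι R x * w) = c • φ (TensorAlgebra.ι R x₀ * w) := by
    intro x
    obtain ⟨c, hc⟩ := (finrank_eq_one_iff_of_nonzero' ((1 : K) ⊗ₜ[R] x₀) hx₀).mp hL ((1 : K) ⊗ₜ[R] x)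
    refine ⟨c, fun w => ?_⟩
    let Λ : L →ₗ[R] PresQuot R p A χ :=
      mkP R p A χ ∘ₗ LinearMap.mulRight R w ∘ₗ TensorAlgebra.ι R
    have h := congr_arg (Λ.baseChange K) hc
    rw [map_smul] at h
    simpa [Λ, φ] using h.symm
  have htop : ∀ w, φ w ∈ (Submodule.span K (Set.range v)).restrictScalars R := by
    refine presQuot_induction φ _ ?_ fun x w hw => ?_
    · exact Submodule.subset_span ⟨⟨0, (Fact.out : p.Prime).pos⟩, by simp [v]⟩
    · obtain ⟨c, hc⟩ := hscale x
      rw [Submodule.restrictScalars_mem, hc]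
      refine Submodule.smul_mem _ c ?_
      -- left multiplication by the generator
      let op : PresQuot R p A χ →ₗ[R]
          PresQuot R p A χ :=
        Submodule.mapQ _ _ (LinearMap.mulLeft R (TensorAlgebra.ι R x₀)) fun y hy =>
          Ideal.mul_mem_left _ _ hy
      have hop : ∀ w, op.baseChange K (φ w) = φ (TensorAlgebra.ι R x₀ * w) := fun w => rfl
      rw [← hop]
      have : Submodule.span K (Set.range v) ≤ (Submodule.span K (Set.range v)).comap (op.baseChange K) := by
        rw [Submodule.span_le]
        rintro _ ⟨j, rfl⟩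
        show op.baseChange K (φ _) ∈ Submodule.span K (Set.range v)
        rw [hop, ← pow_succ']
        by_cases hj : (j : ℕ) + 1 < p
        · exact Submodule.subset_span ⟨⟨_, hj⟩, rfl⟩
        · have hjp : (j : ℕ) + 1 = p := by omega
          obtain ⟨g, hg⟩ := exists_prod_mem hs hχp hrk (fun _ => x₀)
          have h := mk_rel hg
          rw [List.ofFn_const, List.prod_replicate] at h
          obtain ⟨c', hc'⟩ := hscale g
          have h' := hc' 1
          rw [mul_one, mul_one] at h'
          rw [hjp, show φ (TensorAlgebra.ι R x₀ ^ p) = φ (TensorAlgebra.ι R g) from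
            congrArg (fun z => (1 : K) ⊗ₜ[R] z) h, h']
          exact Submodule.smul_mem _ _
            (Submodule.subset_span ⟨⟨1, (Fact.out : p.Prime).one_lt⟩, by simp [v]⟩)
      exact this hw
  have hspan : Submodule.span K (Set.range v) = ⊤ := by
    rw [eq_top_iff]
    rintro z -
    induction z using TensorProduct.induction_on with
    | zero => exact zero_mem _
    | add a b ha hb => exact add_mem ha hb
    | tmul c m =>
      obtain ⟨w, rfl⟩ := Submodule.mkQ_surjective _ m
      rw [show c ⊗ₜ[R] (mkP R p A χ w) = c • φ w by simp [φ, TensorProduct.smul_tmul']]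
      exact Submodule.smul_mem _ c (htop w)
  rw [← finrank_top (R := K), ← hspan]
  exact (finrank_range_le_card v).trans_eq (Fintype.card_fin p)

include hs hχp hrk in
theorem ker_liftI : RingHom.ker (liftI R p A χ) = relIdeal R p A χ := by
  refine le_antisymm (fun z hz => ?_) relIdeal_le
  let M := PresQuot R p A χ
  have : Module.Finite R M := presQuot_finite hs hχp hrk
  let φb : M →ₗ[R] A := Submodule.liftQ _ (liftI R p A χ).toLinearMap fun y hy => relIdeal_le hy
  have hsurj : Function.Surjective φb := fun a => by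
    obtain ⟨w, rfl⟩ := liftI_surjective hs hχp hrk a
    exact ⟨mkP R p A χ w, rfl⟩
  obtain ⟨s, hss⟩ := Module.projective_lifting_property φb LinearMap.id hsurj
  let π : M →ₗ[R] M := LinearMap.id - s ∘ₗ φb
  have hfib : ∀ q : PrimeSpectrum R, Function.Injective (φb.baseChange (geomField q)) := fun q => by
    have hle := finrank_fibre_le (A := A) hs hχp hrk q
    have hs' := LinearMap.baseChange_surjective (geomField q) hsurj
    have hge := LinearMap.finrank_le_finrank_of_injective
      (Function.LeftInverse.injective (f := (s.baseChange (geomField q))) (g := φb.baseChange (geomField q))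
        fun y => by rw [← LinearMap.comp_apply, ← LinearMap.baseChange_comp, hss]; simp)
    rw [finrank_geom hrk] at hge
    exact (LinearMap.injective_iff_surjective_of_finrank_eq_finrank
      ((le_antisymm hle hge).trans (finrank_geom hrk _).symm)).mpr hs'
  have : Module.Finite R (LinearMap.range π) := Module.Finite.range π
  have hN : Subsingleton (LinearMap.range π) := by
    refine subsingleton_of_fibres (R := R) fun q => ?_
    refine subsingleton_of_forall_eq 0 fun y => ?_
    obtain ⟨y, rfl⟩ := LinearMap.baseChange_surjective (geomField q) π.surjective_rangeRestrict y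
    have h0 : (π.baseChange (geomField q)) y = 0 := by
      refine hfib q ?_
      rw [map_zero, ← LinearMap.comp_apply, ← LinearMap.baseChange_comp]
      have : φb ∘ₗ π = 0 := by
        simp [π, LinearMap.comp_sub, ← LinearMap.comp_assoc, hss]
      simp [this]
    have hπ : π ∘ₗ (LinearMap.range π).subtype ∘ₗ π.rangeRestrict = π := LinearMap.ext fun m => by
      show π (π m) = π m
      simp only [π, LinearMap.sub_apply, LinearMap.id_apply, LinearMap.comp_apply, map_sub]
      rw [show φb (s (φb m)) = φb m from LinearMap.congr_fun hss _]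
      abel
    have hid : (π.rangeRestrict ∘ₗ (LinearMap.range π).subtype) ∘ₗ π.rangeRestrict = π.rangeRestrict :=
      LinearMap.ext fun m => Subtype.ext (LinearMap.congr_fun hπ m)
    rw [← hid, LinearMap.comp_assoc, LinearMap.baseChange_comp, LinearMap.comp_apply,
      show (LinearMap.range π).subtype ∘ₗ π.rangeRestrict = π from LinearMap.ext fun _ => rfl, h0, map_zero]
  have hz' : π (mkP R p A χ z) = 0 :=
    congr_arg Subtype.val (Subsingleton.elim (⟨π (mkP R p A χ z), LinearMap.mem_range_self π _⟩ : LinearMap.range π) 0)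
  have hφz : φb (mkP R p A χ z) = 0 := hz
  simp only [π, LinearMap.sub_apply, LinearMap.id_apply, LinearMap.comp_apply, hφz, map_zero, sub_zero] at hz'
  exact (Submodule.Quotient.mk_eq_zero _).mp hz'

end Groth.Agent.OortTate
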